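import Mathlib

/-!
# Livingstone–Wagner (S0746): shared definitions for the swarm

`Cfg G k` is the configuration of a minimal counterexample: `G` is `(k-2)`-transitive,
`(k-1)`- and `k`-homogeneous, no nontrivial element fixes `k-1` points, `G` is not
`(k-1)`-transitive, and `2k ≤ n`.  The goal of the development is `Cfg G k → False`.

The structures `WK`, `SK`, `NK`, `AK`, `BK` bundle the outputs of the individual packages, so
that every package can be developed independently, taking the others as hypotheses.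
-/

set_option autoImplicit false

namespace Cfsg.Agent.Lib.Helper1.LW

variable {α : Type*} [Fintype α] [DecidableEq α]

/-- `g` fixes every point of the finset `S`. -/
def FixOn (g : Equiv.Perm α) (S : Finset α) : Prop := ∀ x ∈ S, g x = x

/-- `g` swaps `a` and `b`. -/
def Swaps (g : Equiv.Perm α) (a b : α) : Prop := g a = b ∧ g b = a

/-- The number of fixed points of `g`. -/
def nfix (g : Equiv.Perm α) : ℕ := (Finset.univ.filter (fun x => g x = x)).card

/-- The configuration of a minimal counterexample to Livingstone–Wagner. -/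
structure Cfg (G : Subgroup (Equiv.Perm α)) (k : ℕ) : Prop where
  hk : 3 ≤ k
  hkn : 2 * k ≤ Fintype.card α
  trans : MulAction.IsMultiplyPretransitive G α (k - 2)
  homog1 : MulAction.IsPretransitive G (Set.powersetCard α (k - 1))
  homog : MulAction.IsPretransitive G (Set.powersetCard α k)
  free : ∀ g ∈ G, ∀ S : Finset α, S.card = k - 1 → FixOn g S → g = 1
  ntrans : ¬ MulAction.IsMultiplyPretransitive G α (k - 1)

/-- Package W: elementary reformulations of transitivity / homogeneity. -/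
structure WK (G : Subgroup (Equiv.Perm α)) (k : ℕ) : Prop where
  /-- the pointwise stabiliser of `k-3` points is transitive on the remaining points -/
  tr1 : ∀ Λ : Finset α, Λ.card + 3 = k → ∀ a b, a ∉ Λ → b ∉ Λ →
    ∃ g ∈ G, FixOn g Λ ∧ g a = b
  /-- the pointwise stabiliser of at most `k-4` points contains an element swapping two given
  further points -/
  sw : ∀ Λ : Finset α, Λ.card + 4 ≤ k → ∀ a b, a ∉ Λ → b ∉ Λ → a ≠ b →
    ∃ g ∈ G, FixOn g Λ ∧ Swaps g a b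
  /-- `(k-2)`-homogeneity -/
  conj2 : ∀ Γ Γ' : Finset α, Γ.card + 2 = k → Γ'.card + 2 = k →
    ∃ g ∈ G, ∀ x, x ∈ Γ ↔ g x ∈ Γ'
  /-- `(k-1)`-homogeneity -/
  conj1 : ∀ Γ Γ' : Finset α, Γ.card + 1 = k → Γ'.card + 1 = k →
    ∃ g ∈ G, ∀ x, x ∈ Γ ↔ g x ∈ Γ'
  /-- `k`-homogeneity -/
  conj0 : ∀ Δ Δ' : Finset α, Δ.card = k → Δ'.card = k →
    ∃ g ∈ G, ∀ x, x ∈ Δ ↔ g x ∈ Δ'
  /-- no `(k-1)`-set has all its transpositions induced -/
  ns : ∀ Γ : Finset α, Γ.card + 1 = k →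
    ∃ a ∈ Γ, ∃ b ∈ Γ, a ≠ b ∧ ∀ g ∈ G, FixOn g (Γ \ {a, b}) → ¬ Swaps g a b

/-- Package S: the stabiliser of `k-2` points has odd order, and consequences. -/
structure SK (G : Subgroup (Equiv.Perm α)) (k : ℕ) : Prop where
  /-- no involution fixes `k-2` points -/
  noInv : ∀ u ∈ G, u ≠ 1 → u * u = 1 → ∀ Γ : Finset α, Γ.card + 2 = k → ¬ FixOn u Γ
  /-- an involution fixes at most `k-3` points -/
  fix_le : ∀ u ∈ G, u ≠ 1 → u * u = 1 → nfix u + 3 ≤ k
  /-- elements fixing `k-2` points have odd order -/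
  odd_order : ∀ g ∈ G, ∀ Γ : Finset α, Γ.card + 2 = k → FixOn g Γ → Odd (orderOf g)
  /-- an involution swapping two given points and fixing `k-4` given points -/
  inv_sw : ∀ Λ : Finset α, Λ.card + 4 = k → ∀ a b, a ∉ Λ → b ∉ Λ → a ≠ b →
    ∃ t ∈ G, t * t = 1 ∧ FixOn t Λ ∧ Swaps t a b
  /-- two such involutions are conjugate under the stabiliser of the `k-2` points -/
  inv_conj : ∀ Λ : Finset α, Λ.card + 4 = k → ∀ a b, a ∉ Λ → b ∉ Λ → a ≠ b →
    ∀ t ∈ G, ∀ t' ∈ G, t * t = 1 → t' * t' = 1 → FixOn t Λ → FixOn t' Λ →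
      Swaps t a b → Swaps t' a b →
      ∃ h ∈ G, FixOn h (insert a (insert b Λ)) ∧ t' = h⁻¹ * t * h

/-- Package N: the numerical invariants `r` (number of orbits of the stabiliser of `k-2` points)
and `s` (its order). -/
structure NK (G : Subgroup (Equiv.Perm α)) (k r s : ℕ) : Prop where
  hs : ∀ Γ : Finset α, Γ.card + 2 = k → Nat.card (fixingSubgroup G (Γ : Set α)) = s
  hpow : ∀ g ∈ G, ∀ Γ : Finset α, Γ.card + 2 = k → FixOn g Γ → g ^ s = 1
  hrs : s * r + k = Fintype.card α + 2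
  hr : 2 ≤ r
  hr1 : r ∣ (k - 1).factorial
  hr2 : r * (Fintype.card α + 1 - k) ∣ k.factorial
  hG : Nat.card G * (Fintype.card α + 2 - k).factorial = s * (Fintype.card α).factorial

/-- Adjacency in the "transposition graph" of a `(k-1)`-set `Γ`. -/
def Adj (G : Subgroup (Equiv.Perm α)) (Γ : Finset α) (a b : α) : Prop :=
  ∃ g ∈ G, FixOn g (Γ \ {a, b}) ∧ Swaps g a b

/-- Package A (case `n - k` odd): the two local facts on transposition graphs. -/
structure AK (G : Subgroup (Equiv.Perm α)) (k : ℕ) : Prop where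
  ta2 : ∀ Γ₀ : Finset α, Γ₀.card + 2 = k → ∀ a ∈ Γ₀, ∀ b ∈ Γ₀, a ≠ b →
    ∃ c, c ∉ Γ₀ ∧ Adj G (insert c Γ₀) a b
  ta3 : ∀ Γ : Finset α, Γ.card + 1 = k → ∀ z ∈ Γ, ∀ a ∈ Γ, ∀ b ∈ Γ, ∀ a' ∈ Γ, ∀ b' ∈ Γ,
    a ≠ z → b ≠ z → a' ≠ z → b' ≠ z → a ≠ b → a ≠ a' → a ≠ b' → b ≠ a' → b ≠ b' → a' ≠ b' →
    Adj G Γ a b → Adj G Γ a' b'

/-- `g ∈ G` induces a double transposition on the `(k-1)`-set `Γ`: it is an involution
stabilising `Γ` and moving exactly four points of `Γ`. -/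
def IsDT (G : Subgroup (Equiv.Perm α)) (Γ : Finset α) (g : Equiv.Perm α) : Prop :=
  g ∈ G ∧ g * g = 1 ∧ (∀ x ∈ Γ, g x ∈ Γ) ∧ (Γ.filter (fun x => g x ≠ x)).card = 4

/-- Package B (case `n - k` even): double transpositions are induced, each has a unique fixed
point outside `Γ`, commuting ones share it. -/
structure BK (G : Subgroup (Equiv.Perm α)) (k : ℕ) : Prop where
  dt_exists : ∀ Γ : Finset α, Γ.card + 1 = k → ∀ a ∈ Γ, ∀ b ∈ Γ, ∀ c ∈ Γ, ∀ d ∈ Γ,
    a ≠ b → a ≠ c → a ≠ d → b ≠ c → b ≠ d → c ≠ d →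
    ∃ g ∈ G, FixOn g (Γ \ {a, b, c, d}) ∧ Swaps g a b ∧ Swaps g c d
  dt_fix : ∀ Γ : Finset α, Γ.card + 1 = k → ∀ g, IsDT G Γ g →
    ∃ δ, δ ∉ Γ ∧ g δ = δ ∧ ∀ δ', δ' ∉ Γ → g δ' = δ' → δ' = δ
  dt_comm : ∀ Γ : Finset α, Γ.card + 1 = k → ∀ g g', IsDT G Γ g → IsDT G Γ g' →
    (∀ x ∈ Γ, g (g' x) = g' (g x)) → ∀ δ, δ ∉ Γ → g δ = δ → g' δ = δ

end Cfsg.Agent.Lib.Helper1.LW
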