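import Mathlib
import Cfsg.Agent.Lib.Helper1.LW.Defs

/-!
# Livingstone–Wagner (S0746): basic lemmas shared by the packages
-/

set_option autoImplicit false

namespace Cfsg.Agent.Lib.Helper1.LW

variable {α : Type*} [Fintype α] [DecidableEq α]

omit [Fintype α] [DecidableEq α] in
theorem FixOn.mono {g : Equiv.Perm α} {S T : Finset α} (h : FixOn g T) (hST : S ⊆ T) :
    FixOn g S := fun x hx => h x (hST hx)

omit [Fintype α] [DecidableEq α] in
theorem FixOn.one (S : Finset α) : FixOn (1 : Equiv.Perm α) S := fun _ _ => rfl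

omit [Fintype α] [DecidableEq α] in
theorem FixOn.mul {g h : Equiv.Perm α} {S : Finset α} (hg : FixOn g S) (hh : FixOn h S) :
    FixOn (g * h) S := fun x hx => by
  rw [Equiv.Perm.mul_apply, hh x hx, hg x hx]

omit [Fintype α] [DecidableEq α] in
theorem FixOn.inv {g : Equiv.Perm α} {S : Finset α} (hg : FixOn g S) : FixOn g⁻¹ S :=
  fun x hx => by
    rw [Equiv.Perm.inv_eq_iff_eq]; exact (hg x hx).symm

omit [Fintype α] [DecidableEq α] in
theorem FixOn.pow {g : Equiv.Perm α} {S : Finset α} (hg : FixOn g S) (n : ℕ) : FixOn (g ^ n) S := by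
  induction n with
  | zero => rw [pow_zero]; exact FixOn.one S
  | succ n ih => rw [pow_succ]; exact ih.mul hg

omit [Fintype α] in
theorem FixOn.insert {g : Equiv.Perm α} {S : Finset α} {a : α} (hg : FixOn g S) (ha : g a = a) :
    FixOn g (insert a S) := fun x hx => by
  rcases Finset.mem_insert.mp hx with rfl | hx
  · exact ha
  · exact hg x hx

omit [Fintype α] [DecidableEq α] in
theorem Swaps.symm {g : Equiv.Perm α} {a b : α} (h : Swaps g a b) : Swaps g b a := ⟨h.2, h.1⟩

omit [Fintype α] [DecidableEq α] in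
theorem Swaps.inv {g : Equiv.Perm α} {a b : α} (h : Swaps g a b) : Swaps g⁻¹ a b :=
  ⟨by rw [Equiv.Perm.inv_eq_iff_eq]; exact h.2.symm, by rw [Equiv.Perm.inv_eq_iff_eq]; exact h.1.symm⟩

omit [Fintype α] [DecidableEq α] in
/-- an involution mapping `a` to `b` swaps them -/
theorem swaps_of_invol {g : Equiv.Perm α} {a b : α} (hg : g * g = 1) (h : g a = b) : Swaps g a b := by
  refine ⟨h, ?_⟩
  rw [← h, ← Equiv.Perm.mul_apply, hg, Equiv.Perm.one_apply]

omit [Fintype α] [DecidableEq α] in
/-- odd powers of a permutation swapping `a` and `b` swap `a` and `b` -/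
theorem Swaps.pow_odd {g : Equiv.Perm α} {a b : α} (h : Swaps g a b) {n : ℕ} (hn : Odd n) :
    Swaps (g ^ n) a b := by
  obtain ⟨m, rfl⟩ := hn
  have h2 : ∀ m : ℕ, (g ^ (2 * m)) a = a ∧ (g ^ (2 * m)) b = b := by
    intro m
    induction m with
    | zero => simp
    | succ m ih =>
      have hpow : g ^ (2 * (m + 1)) = g ^ (2 * m) * g * g := by
        rw [Nat.mul_succ, pow_succ, pow_succ]
      rw [hpow]
      constructor
      · simp only [Equiv.Perm.mul_apply]
        rw [h.1, h.2]; exact ih.1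
      · simp only [Equiv.Perm.mul_apply]
        rw [h.2, h.1]; exact ih.2
  rw [pow_succ]
  constructor
  · rw [Equiv.Perm.mul_apply, h.1]; exact (h2 m).2
  · rw [Equiv.Perm.mul_apply, h.2]; exact (h2 m).1

omit [Fintype α] in
/-- Package INJ: if `y ↦ t y c` maps `Y \ {c}` injectively into itself, it is onto. -/
theorem exists_map_eq (Y : Finset α) (c : α) (t : α → Equiv.Perm α)
    (hmem : ∀ y ∈ Y, y ≠ c → t y c ∈ Y ∧ t y c ≠ c)
    (hinj : ∀ y ∈ Y, ∀ y' ∈ Y, y ≠ c → y' ≠ c → t y c = t y' c → y = y') :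
    ∀ d ∈ Y, d ≠ c → ∃ y ∈ Y, y ≠ c ∧ t y c = d := by
  intro d hd hdc
  have himg : (Y.erase c).image (fun y => t y c) = Y.erase c := by
    apply Finset.eq_of_subset_of_card_le
    · intro z hz
      obtain ⟨y, hy, rfl⟩ := Finset.mem_image.mp hz
      have hy' := Finset.mem_erase.mp hy
      exact Finset.mem_erase.mpr ⟨(hmem y hy'.2 hy'.1).2, (hmem y hy'.2 hy'.1).1⟩
    · rw [Finset.card_image_of_injOn]
      intro y hy y' hy' hyy'
      have h1 := Finset.mem_erase.mp (Finset.mem_coe.mp hy)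
      have h2 := Finset.mem_erase.mp (Finset.mem_coe.mp hy')
      exact hinj y h1.2 y' h2.2 h1.1 h2.1 hyy'
  have hd' : d ∈ (Y.erase c).image (fun y => t y c) := by
    rw [himg]; exact Finset.mem_erase.mpr ⟨hdc, hd⟩
  obtain ⟨y, hy, hyd⟩ := Finset.mem_image.mp hd'
  have hy' := Finset.mem_erase.mp hy
  exact ⟨y, hy'.2, hy'.1, hyd⟩

/-- the number of fixed points of an involution has the parity of the degree -/
theorem nfix_parity {g : Equiv.Perm α} (hg : g * g = 1) : nfix g % 2 = Fintype.card α % 2 := by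
  have h2 : g ^ 2 ^ 1 = 1 := by rw [pow_one, pow_two]; exact hg
  have : Fact (Nat.Prime 2) := ⟨Nat.prime_two⟩
  have h3 := Equiv.Perm.card_compl_support_modEq (p := 2) (n := 1) h2
  have h4 : g.supportᶜ = Finset.univ.filter (fun x => g x = x) := by
    ext x
    simp [Equiv.Perm.mem_support]
  rw [h4] at h3
  exact h3

variable {G : Subgroup (Equiv.Perm α)} {k : ℕ}

/-- an element of `G` fixing at least `k-1` points is trivial -/
theorem Cfg.eq_one_of_fixOn (h : Cfg G k) {g : Equiv.Perm α} (hg : g ∈ G) {S : Finset α}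
    (hS : k ≤ S.card + 1) (hfix : FixOn g S) : g = 1 := by
  obtain ⟨T, hTS, hT⟩ := Finset.exists_subset_card_eq (s := S) (n := k - 1) (by omega)
  exact h.free g hg T hT (hfix.mono hTS)

/-- two elements of `G` agreeing on at least `k-1` points are equal -/
theorem Cfg.eq_of_agree (h : Cfg G k) {g g' : Equiv.Perm α} (hg : g ∈ G) (hg' : g' ∈ G)
    {S : Finset α} (hS : k ≤ S.card + 1) (hag : ∀ x ∈ S, g x = g' x) : g = g' := by
  have h1 : g'⁻¹ * g = 1 := by
    apply h.eq_one_of_fixOn (G.mul_mem (G.inv_mem hg') hg) hS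
    intro x hx
    rw [Equiv.Perm.mul_apply, hag x hx, Equiv.Perm.inv_eq_iff_eq]
  calc g = g' * (g'⁻¹ * g) := by group
    _ = g' := by rw [h1, mul_one]

/-- an element of `G` with nontrivial fixed-point behaviour: `nfix g + 2 ≤ k` unless `g = 1` -/
theorem Cfg.nfix_le (h : Cfg G k) {g : Equiv.Perm α} (hg : g ∈ G) (hg1 : g ≠ 1) : nfix g + 2 ≤ k := by
  by_contra hcon
  apply hg1
  apply h.eq_one_of_fixOn hg (S := Finset.univ.filter (fun x => g x = x))
  · unfold nfix at hcon; omega
  · intro x hx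
    exact (Finset.mem_filter.mp hx).2

/-- lower bound for `nfix` from a set of fixed points -/
theorem le_nfix {g : Equiv.Perm α} {S : Finset α} (hfix : FixOn g S) : S.card ≤ nfix g := by
  unfold nfix
  apply Finset.card_le_card
  intro x hx
  exact Finset.mem_filter.mpr ⟨Finset.mem_univ x, hfix x hx⟩

/-- if `nfix g ≤ S.card + 1`, `g` fixes `S` pointwise and two points `x, y` outside `S`,
then `x = y` -/
theorem eq_of_nfix_le {g : Equiv.Perm α} {S : Finset α} (hfix : FixOn g S) (hn : nfix g ≤ S.card + 1)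
    {x y : α} (hx : x ∉ S) (hy : y ∉ S) (hgx : g x = x) (hgy : g y = y) : x = y := by
  by_contra hxy
  have h1 : FixOn g (insert x (insert y S)) := (hfix.insert hgy).insert hgx
  have h2 := le_nfix h1
  rw [Finset.card_insert_of_notMem (by simp [hxy, hx]), Finset.card_insert_of_notMem hy] at h2
  omega

end Cfsg.Agent.Lib.Helper1.LW
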