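import Mathlib
import Cfsg.Agent.Lib.Helper1.LW.Basic

/-!
# Livingstone–Wagner, second statement (S0745): shared definitions

`Cfg2 G k` is `Cfg G k` with the hypothesis `2k ≤ n` weakened to `k < n`.
-/

set_option autoImplicit false

namespace Cfsg.Agent.Lib.Helper1.LW

variable {α : Type*} [Fintype α] [DecidableEq α]

/-- `Cfg` with `2 * k ≤ n` weakened to `k + 1 ≤ n`. -/
structure Cfg2 (G : Subgroup (Equiv.Perm α)) (k : ℕ) : Prop where
  hk : 3 ≤ k
  hkn : k + 1 ≤ Fintype.card α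
  trans : MulAction.IsMultiplyPretransitive G α (k - 2)
  homog1 : MulAction.IsPretransitive G (Set.powersetCard α (k - 1))
  homog : MulAction.IsPretransitive G (Set.powersetCard α k)
  free : ∀ g ∈ G, ∀ S : Finset α, S.card = k - 1 → FixOn g S → g = 1
  ntrans : ¬ MulAction.IsMultiplyPretransitive G α (k - 1)

variable {G : Subgroup (Equiv.Perm α)} {k : ℕ}

theorem Cfg.toCfg2 (h : Cfg G k) : Cfg2 G k :=
  { hk := h.hk, hkn := by have := h.hk; have := h.hkn; omega, trans := h.trans,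
    homog1 := h.homog1, homog := h.homog, free := h.free, ntrans := h.ntrans }

theorem Cfg2.toCfg (h : Cfg2 G k) (hkn : 2 * k ≤ Fintype.card α) : Cfg G k :=
  { hk := h.hk, hkn := hkn, trans := h.trans,
    homog1 := h.homog1, homog := h.homog, free := h.free, ntrans := h.ntrans }

/-- an element of `G` fixing at least `k-1` points is trivial -/
theorem Cfg2.eq_one_of_fixOn (h : Cfg2 G k) {g : Equiv.Perm α} (hg : g ∈ G) {S : Finset α}
    (hS : k ≤ S.card + 1) (hfix : FixOn g S) : g = 1 := by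
  obtain ⟨T, hTS, hT⟩ := Finset.exists_subset_card_eq (s := S) (n := k - 1) (by omega)
  exact h.free g hg T hT (hfix.mono hTS)

/-- two elements of `G` agreeing on at least `k-1` points are equal -/
theorem Cfg2.eq_of_agree (h : Cfg2 G k) {g g' : Equiv.Perm α} (hg : g ∈ G) (hg' : g' ∈ G)
    {S : Finset α} (hS : k ≤ S.card + 1) (hag : ∀ x ∈ S, g x = g' x) : g = g' := by
  have h1 : g'⁻¹ * g = 1 := by
    apply h.eq_one_of_fixOn (G.mul_mem (G.inv_mem hg') hg) hS
    intro x hx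
    rw [Equiv.Perm.mul_apply, hag x hx, Equiv.Perm.inv_eq_iff_eq]
  calc g = g' * (g'⁻¹ * g) := by group
    _ = g' := by rw [h1, mul_one]

/-- a nontrivial element of `G` fixes at most `k-2` points -/
theorem Cfg2.nfix_le (h : Cfg2 G k) {g : Equiv.Perm α} (hg : g ∈ G) (hg1 : g ≠ 1) :
    nfix g + 2 ≤ k := by
  by_contra hcon
  apply hg1
  apply h.eq_one_of_fixOn hg (S := Finset.univ.filter (fun x => g x = x))
  · unfold nfix at hcon; omega
  · intro x hx
    exact (Finset.mem_filter.mp hx).2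

omit [Fintype α] [DecidableEq α] in
/-- the setwise stabiliser of `Γ` in `G`, as a subgroup of `Perm α` -/
def setStab (G : Subgroup (Equiv.Perm α)) (Γ : Finset α) : Subgroup (Equiv.Perm α) where
  carrier := {g | g ∈ G ∧ ∀ x, x ∈ Γ ↔ g x ∈ Γ}
  one_mem' := ⟨G.one_mem, fun _ => Iff.rfl⟩
  mul_mem' := by
    rintro g g' ⟨hg, hgm⟩ ⟨hg', hgm'⟩
    exact ⟨G.mul_mem hg hg', fun x => by rw [Equiv.Perm.mul_apply, hgm' x, hgm (g' x)]⟩
  inv_mem' := by
    rintro g ⟨hg, hgm⟩
    refine ⟨G.inv_mem hg, fun x => ?_⟩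
    rw [hgm (g⁻¹ x)]
    have : g (g⁻¹ x) = x := by rw [← Equiv.Perm.mul_apply, mul_inv_cancel, Equiv.Perm.one_apply]
    rw [this]

omit [Fintype α] [DecidableEq α] in
theorem mem_setStab {Γ : Finset α} {g : Equiv.Perm α} :
    g ∈ setStab G Γ ↔ g ∈ G ∧ ∀ x, x ∈ Γ ↔ g x ∈ Γ := Iff.rfl

/-- Package N2: the numerical invariants, with the orders of the set stabilisers. -/
structure NK2 (G : Subgroup (Equiv.Perm α)) (k r s : ℕ) : Prop where
  hs : ∀ Γ : Finset α, Γ.card + 2 = k → Nat.card (fixingSubgroup G (Γ : Set α)) = s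
  hpow : ∀ g ∈ G, ∀ Γ : Finset α, Γ.card + 2 = k → FixOn g Γ → g ^ s = 1
  hrs : s * r + k = Fintype.card α + 2
  hr : 2 ≤ r
  hE : ∀ Γ : Finset α, Γ.card + 1 = k → Nat.card (setStab G Γ) * r = (k - 1).factorial
  hD : ∀ Δ : Finset α, Δ.card = k →
    Nat.card (setStab G Δ) * r * (Fintype.card α + 1 - k) = k.factorial
  hG : Nat.card G * (Fintype.card α + 2 - k).factorial = s * (Fintype.card α).factorial

end Cfsg.Agent.Lib.Helper1.LW
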