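import Mathlib
import Cfsg.Agent.Lib.Helper1.LW.Defs2

/-!
# Livingstone–Wagner, second statement (S0745): package ALT

In the even case with `k ≥ 6`, the set stabiliser of a `(k-1)`-set `Γ` induces at least the
alternating group on `Γ`, hence `r = 2`.
-/

set_option autoImplicit false

namespace Cfsg.Agent.Lib.Helper1.LW

variable {α : Type*} [Fintype α] [DecidableEq α] {G : Subgroup (Equiv.Perm α)} {k : ℕ}

omit [Fintype α] [DecidableEq α] in
/-- restriction of the set stabiliser of `Γ` to `Γ` -/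
def restrictHom (G : Subgroup (Equiv.Perm α)) (Γ : Finset α) :
    setStab G Γ →* Equiv.Perm {x // x ∈ Γ} where
  toFun g := Equiv.Perm.subtypePerm g.1 (fun x => ((mem_setStab.mp g.2).2 x).symm)
  map_one' := by ext x; simp
  map_mul' := by intro g g'; ext x; rfl

omit [Fintype α] [DecidableEq α] in
theorem restrictHom_apply (Γ : Finset α) (g : setStab G Γ) (x : {x // x ∈ Γ}) :
    ((restrictHom G Γ g x : {x // x ∈ Γ}) : α) = (g : Equiv.Perm α) x := rfl

theorem alt_restrictHom_injective (h : Cfg2 G k) (Γ : Finset α) (hΓ : Γ.card + 1 = k) :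
    Function.Injective (restrictHom G Γ) := by
  rw [injective_iff_map_eq_one]
  intro g hg
  apply Subtype.ext
  apply h.eq_one_of_fixOn (mem_setStab.mp g.2).1 (S := Γ) (by omega)
  intro x hx
  have h1 := restrictHom_apply Γ g ⟨x, hx⟩
  rw [hg] at h1
  exact h1.symm

theorem alt_mem_range (h : Cfg2 G k) (bk : BK G k) (Γ : Finset α) (hΓ : Γ.card + 1 = k)
    (σ : Equiv.Perm {x // x ∈ Γ}) (hσ : σ.cycleType = {2, 2}) :
    σ ∈ (restrictHom G Γ).range := by
  have hord : orderOf σ = 2 := by
    rw [← Equiv.Perm.lcm_cycleType, hσ]; rfl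
  have hσσ : σ * σ = 1 := by
    rw [← sq, ← hord, pow_orderOf_eq_one]
  have hinv : ∀ x, σ (σ x) = x := by
    intro x
    have := congrArg (fun τ : Equiv.Perm {x // x ∈ Γ} => τ x) hσσ
    simpa using this
  have hsupp : σ.support.card = 4 := by
    rw [← Equiv.Perm.sum_cycleType, hσ]; rfl
  obtain ⟨a, ha⟩ := Finset.card_pos.mp (by omega : 0 < σ.support.card)
  have hab : σ a ≠ a := Equiv.Perm.mem_support.mp ha
  have hb : σ a ∈ σ.support := Equiv.Perm.apply_mem_support.mpr ha
  obtain ⟨c, hc, hcab⟩ := Finset.exists_mem_notMem_of_card_lt_card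
    (s := ({a, σ a} : Finset {x // x ∈ Γ})) (t := σ.support) (by
      have := Finset.card_le_two (a := a) (b := σ a)
      omega)
  have hca : c ≠ a := by
    intro hh; apply hcab; rw [hh]; simp
  have hcb : c ≠ σ a := by
    intro hh; apply hcab; rw [hh]; simp
  have hcd : σ c ≠ c := Equiv.Perm.mem_support.mp hc
  have hd : σ c ∈ σ.support := Equiv.Perm.apply_mem_support.mpr hc
  have hda : σ c ≠ a := by
    intro hh
    apply hcb
    rw [← hh, hinv]
  have hdb : σ c ≠ σ a := by
    intro hh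
    exact hca (σ.injective hh)
  have hsub : ({a, σ a, c, σ c} : Finset {x // x ∈ Γ}) ⊆ σ.support := by
    intro x hx
    simp only [Finset.mem_insert, Finset.mem_singleton] at hx
    rcases hx with rfl | rfl | rfl | rfl
    · exact ha
    · exact hb
    · exact hc
    · exact hd
  have hcard4 : ({a, σ a, c, σ c} : Finset {x // x ∈ Γ}).card = 4 := by
    rw [Finset.card_insert_of_notMem, Finset.card_insert_of_notMem, Finset.card_pair hcd.symm]
    · simp only [Finset.mem_insert, Finset.mem_singleton, not_or]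
      exact ⟨hcb.symm, hdb.symm⟩
    · simp only [Finset.mem_insert, Finset.mem_singleton, not_or]
      exact ⟨hab.symm, hca.symm, hda.symm⟩
  have hseq : ({a, σ a, c, σ c} : Finset {x // x ∈ Γ}) = σ.support :=
    Finset.eq_of_subset_of_card_le hsub (by omega)
  have hfixσ : ∀ x, x ≠ a → x ≠ σ a → x ≠ c → x ≠ σ c → σ x = x := by
    intro x h1 h2 h3 h4
    by_contra hne
    have : x ∈ σ.support := Equiv.Perm.mem_support.mpr hne
    rw [← hseq] at this
    simp only [Finset.mem_insert, Finset.mem_singleton] at this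
    rcases this with h | h | h | h
    · exact h1 h
    · exact h2 h
    · exact h3 h
    · exact h4 h
  -- the element of `G`
  have hval : ∀ {x y : {x // x ∈ Γ}}, x ≠ y → (x : α) ≠ (y : α) :=
    fun hxy hh => hxy (Subtype.ext hh)
  obtain ⟨g, hg, hgfix, hgab, hgcd⟩ := bk.dt_exists Γ hΓ a.1 a.2 (σ a).1 (σ a).2 c.1 c.2
    (σ c).1 (σ c).2 (hval hab.symm) (hval hca.symm) (hval hda.symm) (hval hcb.symm)
    (hval hdb.symm) (hval hcd.symm)
  have hgval : ∀ x : {x // x ∈ Γ}, g x.1 = (σ x).1 := by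
    intro x
    by_cases h1 : x = a
    · rw [h1]; exact hgab.1
    by_cases h2 : x = σ a
    · rw [h2, hinv]; exact hgab.2
    by_cases h3 : x = c
    · rw [h3]; exact hgcd.1
    by_cases h4 : x = σ c
    · rw [h4, hinv]; exact hgcd.2
    rw [hfixσ x h1 h2 h3 h4]
    apply hgfix
    simp only [Finset.mem_sdiff, Finset.mem_insert, Finset.mem_singleton, not_or]
    exact ⟨x.2, hval h1, hval h2, hval h3, hval h4⟩
  have hgΓ : ∀ x ∈ Γ, g x ∈ Γ := by
    intro x hx
    rw [hgval ⟨x, hx⟩]
    exact (σ ⟨x, hx⟩).2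
  have hgg : g * g = 1 := by
    apply h.eq_one_of_fixOn (G.mul_mem hg hg) (S := Γ) (by omega)
    intro x hx
    rw [Equiv.Perm.mul_apply, hgval ⟨x, hx⟩, hgval (σ ⟨x, hx⟩), hinv]
  have hgmem : g ∈ setStab G Γ := by
    rw [mem_setStab]
    refine ⟨hg, fun x => ⟨hgΓ x, fun hx => ?_⟩⟩
    have h1 := hgΓ _ hx
    have h2 : g (g x) = x := by
      rw [← Equiv.Perm.mul_apply, hgg, Equiv.Perm.one_apply]
    rwa [h2] at h1
  refine ⟨⟨g, hgmem⟩, ?_⟩
  ext x
  rw [restrictHom_apply]
  exact hgval x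

/-- ALT: in the even case with `k ≥ 6` the set stabiliser of a `(k-1)`-set induces at least the
alternating group, hence `r = 2`. -/
theorem r_eq_two {r s : ℕ} (h : Cfg2 G k) (nk : NK2 G k r s) (bk : BK G k) (hk6 : 6 ≤ k) :
    r = 2 := by
  have hkn := h.hkn
  obtain ⟨Γ, -, hΓc⟩ := Finset.exists_subset_card_eq (s := (Finset.univ : Finset α))
    (n := k - 1) (by rw [Finset.card_univ]; omega)
  have hΓ : Γ.card + 1 = k := by omega
  have hE := nk.hE Γ hΓ
  have hr := nk.hr
  have hcardΓ : Fintype.card {x // x ∈ Γ} = k - 1 := by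
    rw [Fintype.card_coe, hΓc]
  have hnon : Nontrivial {x // x ∈ Γ} := by
    rw [← Fintype.one_lt_card_iff_nontrivial, hcardΓ]; omega
  have hle : alternatingGroup {x // x ∈ Γ} ≤ (restrictHom G Γ).range := by
    rw [← Equiv.Perm.closure_cycleType_eq_two_two_eq_alternatingGroup
      (by rw [Nat.card_eq_fintype_card, hcardΓ]; omega), Subgroup.closure_le]
    intro σ hσ
    exact alt_mem_range h bk Γ hΓ σ hσ
  have h1 : Nat.card (alternatingGroup {x // x ∈ Γ}) ≤ Nat.card (restrictHom G Γ).range :=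
    Subgroup.card_le_of_le hle
  have h2 : Nat.card (restrictHom G Γ).range = Nat.card (setStab G Γ) :=
    (Nat.card_congr (Equiv.ofInjective _ (alt_restrictHom_injective h Γ hΓ))).symm
  have h3 : 2 * Nat.card (alternatingGroup {x // x ∈ Γ}) = (k - 1).factorial := by
    rw [two_mul_nat_card_alternatingGroup, Nat.card_eq_fintype_card,
      Fintype.card_perm, hcardΓ]
  have hpos : 0 < Nat.card (setStab G Γ) := Nat.card_pos
  -- |E| * r = (k-1)! ≤ 2 |E|
  have h4 : Nat.card (setStab G Γ) * r ≤ Nat.card (setStab G Γ) * 2 := by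
    rw [hE, ← h3, ← h2]
    omega
  have := Nat.le_of_mul_le_mul_left h4 hpos
  omega

end Cfsg.Agent.Lib.Helper1.LW
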