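import Mathlib
import Cfsg.Agent.Lib.Helper1.LW.Basic

/-!
# Livingstone–Wagner (S0746): package B-I (case `n - k` even: double transpositions)
-/

set_option autoImplicit false

namespace Cfsg.Agent.Lib.Helper1.LW

variable {α : Type*} [Fintype α] [DecidableEq α] {G : Subgroup (Equiv.Perm α)} {k : ℕ}

/-- in the even case an involution fixes at most `k-4` points -/
theorem nfix_add_four_le (h : Cfg G k) (sk : SK G k) (heven : Even (Fintype.card α - k))
    {u : Equiv.Perm α} (hu : u ∈ G) (hu1 : u ≠ 1) (huu : u * u = 1) : nfix u + 4 ≤ k := by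
  have h1 := sk.fix_le u hu hu1 huu
  have h2 := nfix_parity huu
  have hkn := h.hkn
  obtain ⟨e, he⟩ := heven
  omega

theorem bk_dt_exists (h : Cfg G k) (sk : SK G k) (heven : Even (Fintype.card α - k))
    (hk5 : 5 ≤ k) : ∀ Γ : Finset α, Γ.card + 1 = k → ∀ a ∈ Γ, ∀ b ∈ Γ, ∀ c ∈ Γ, ∀ d ∈ Γ,
    a ≠ b → a ≠ c → a ≠ d → b ≠ c → b ≠ d → c ≠ d →
    ∃ g ∈ G, FixOn g (Γ \ {a, b, c, d}) ∧ Swaps g a b ∧ Swaps g c d := by
  intro Γ hΓ a ha b hb c hc d hd hab hac had hbc hbd hcd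
  set Λ : Finset α := Γ \ {a, b, c, d} with hΛdef
  have haΛ : a ∉ Λ := by simp [hΛdef]
  have hbΛ : b ∉ Λ := by simp [hΛdef]
  have hcΛ : c ∉ Λ := by simp [hΛdef]
  have hdΛ : d ∉ Λ := by simp [hΛdef]
  have hΛcard : Λ.card + 5 = k := by
    have h1 : ({a, b, c, d} : Finset α) ⊆ Γ := by
      intro x hx
      simp only [Finset.mem_insert, Finset.mem_singleton] at hx
      rcases hx with rfl | rfl | rfl | rfl <;> assumption
    have h2 : ({a, b, c, d} : Finset α).card = 4 := by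
      rw [Finset.card_insert_of_notMem (by simp [hab, hac, had]),
        Finset.card_insert_of_notMem (by simp [hbc, hbd]), Finset.card_pair hcd]
    rw [hΛdef, Finset.card_sdiff_of_subset h1, h2]
    omega
  -- the involutions `t y`
  have key : ∀ y, (y ∉ Λ ∧ y ≠ a ∧ y ≠ b) →
      ∃ t ∈ G, t * t = 1 ∧ FixOn t (insert y Λ) ∧ Swaps t a b := by
    rintro y ⟨hyΛ, hya, hyb⟩
    exact sk.inv_sw (insert y Λ) (by rw [Finset.card_insert_of_notMem hyΛ]; omega) a b
      (by simp [Ne.symm hya, haΛ]) (by simp [Ne.symm hyb, hbΛ]) hab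
  choose! t ht using key
  have ht1 : ∀ y, (y ∉ Λ ∧ y ≠ a ∧ y ≠ b) → t y ≠ 1 := by
    intro y hy hcon
    have := (ht y hy).2.2.2.1
    rw [hcon, Equiv.Perm.one_apply] at this
    exact hab this
  have hfree1 : ∀ y, (y ∉ Λ ∧ y ≠ a ∧ y ≠ b) → ∀ z, z ∉ Λ → z ≠ y → t y z ≠ z := by
    intro y hy z hz hzy hfz
    have h1 := nfix_add_four_le h sk heven (ht y hy).1 (ht1 y hy) (ht y hy).2.1
    have h2 : FixOn (t y) (insert z (insert y Λ)) := ((ht y hy).2.2.1).insert hfz
    have h3 := le_nfix h2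
    rw [Finset.card_insert_of_notMem (by simp [hzy, hz]), Finset.card_insert_of_notMem hy.1] at h3
    omega
  have hpres : ∀ y, (y ∉ Λ ∧ y ≠ a ∧ y ≠ b) → ∀ z, (z ∉ Λ ∧ z ≠ a ∧ z ≠ b) →
      (t y z ∉ Λ ∧ t y z ≠ a ∧ t y z ≠ b) := by
    intro y hy z hz
    refine ⟨?_, ?_, ?_⟩
    · intro hmem
      have h1 : t y (t y z) = t y z := (ht y hy).2.2.1 _ (Finset.mem_insert_of_mem hmem)
      have h2 : t y z = z := (t y).injective h1
      rw [h2] at hmem
      exact hz.1 hmem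
    · intro hcon
      have h1 : t y z = t y b := by rw [hcon, (ht y hy).2.2.2.2]
      exact hz.2.2 ((t y).injective h1)
    · intro hcon
      have h1 : t y z = t y a := by rw [hcon, (ht y hy).2.2.2.1]
      exact hz.2.1 ((t y).injective h1)
  set Y : Finset α := Finset.univ.filter (fun y => y ∉ Λ ∧ y ≠ a ∧ y ≠ b) with hYdef
  have hY : ∀ y, y ∈ Y ↔ (y ∉ Λ ∧ y ≠ a ∧ y ≠ b) := by
    intro y; simp [hYdef]
  have hcY : c ∉ Λ ∧ c ≠ a ∧ c ≠ b := ⟨hcΛ, Ne.symm hac, Ne.symm hbc⟩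
  have hdY : d ∉ Λ ∧ d ≠ a ∧ d ≠ b := ⟨hdΛ, Ne.symm had, Ne.symm hbd⟩
  obtain ⟨y, hyY, hyc, hycd⟩ := exists_map_eq Y c t
    (by
      intro y hy hyc
      rw [hY] at hy
      exact ⟨(hY _).mpr (hpres y hy c hcY), hfree1 y hy c hcΛ (Ne.symm hyc)⟩)
    (by
      intro y hy y' hy' hyc hy'c hyy'
      rw [hY] at hy hy'
      have hd' := hpres y hy c hcY
      have hd'c : t y c ≠ c := hfree1 y hy c hcΛ (Ne.symm hyc)
      have heq : t y = t y' := by
        apply h.eq_of_agree (ht y hy).1 (ht y' hy').1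
          (S := insert c (insert (t y c) (insert a (insert b Λ))))
        · rw [Finset.card_insert_of_notMem (by simp [Ne.symm hd'c, hac.symm, hbc.symm, hcΛ]),
            Finset.card_insert_of_notMem (by simp [hd'.1, hd'.2.1, hd'.2.2]),
            Finset.card_insert_of_notMem (by simp [hab, haΛ]),
            Finset.card_insert_of_notMem hbΛ]
          omega
        · intro x hx
          rcases Finset.mem_insert.mp hx with rfl | hx
          · exact hyy'
          · rcases Finset.mem_insert.mp hx with hxe | hx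
            · have h1 := (swaps_of_invol (ht y hy).2.1 rfl : Swaps (t y) c (t y c)).2
              have h2 := (swaps_of_invol (ht y' hy').2.1 hyy'.symm : Swaps (t y') c (t y c)).2
              rw [hxe, h1, h2]
            · rcases Finset.mem_insert.mp hx with rfl | hx
              · rw [(ht y hy).2.2.2.1, (ht y' hy').2.2.2.1]
              · rcases Finset.mem_insert.mp hx with rfl | hx
                · rw [(ht y hy).2.2.2.2, (ht y' hy').2.2.2.2]
                · rw [(ht y hy).2.2.1 x (Finset.mem_insert_of_mem hx),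
                    (ht y' hy').2.2.1 x (Finset.mem_insert_of_mem hx)]
      by_contra hne
      have h1 : t y y' = y' := by
        rw [heq]; exact (ht y' hy').2.2.1 y' (Finset.mem_insert_self _ _)
      exact hfree1 y hy y' hy'.1 (Ne.symm hne) h1)
    d ((hY d).mpr hdY) (Ne.symm hcd)
  rw [hY] at hyY
  exact ⟨t y, (ht y hyY).1, ((ht y hyY).2.2.1).mono (Finset.subset_insert _ _),
    (ht y hyY).2.2.2, swaps_of_invol (ht y hyY).2.1 hycd⟩

theorem bk_dt_fix (h : Cfg G k) (sk : SK G k) (heven : Even (Fintype.card α - k)) :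
    ∀ Γ : Finset α, Γ.card + 1 = k → ∀ g, IsDT G Γ g →
    ∃ δ, δ ∉ Γ ∧ g δ = δ ∧ ∀ δ', δ' ∉ Γ → g δ' = δ' → δ' = δ := by
  rintro Γ hΓ g ⟨hg, hgg, hstab, hmov⟩
  have hg1 : g ≠ 1 := by
    rintro rfl
    simp at hmov
  have h1 := nfix_add_four_le h sk heven hg hg1 hgg
  have h2 := nfix_parity hgg
  have hkn := h.hkn
  obtain ⟨e, he⟩ := heven
  -- fixed points inside Γ
  have h3 : (Γ.filter (fun x => g x = x)).card + 4 = Γ.card := by
    have := Finset.card_filter_add_card_filter_not (s := Γ) (fun x => g x = x)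
    rw [← this]
    congr 1
    exact hmov.symm
  set F : Finset α := Finset.univ.filter (fun x => g x = x) with hF
  have hFΓ : F ∩ Γ = Γ.filter (fun x => g x = x) := by
    ext x; simp [hF, and_comm]
  have h4 : (F \ Γ).card + (F ∩ Γ).card = F.card := Finset.card_sdiff_add_card_inter F Γ
  have hFcard : F.card = nfix g := rfl
  have h5 : (F \ Γ).card = 1 := by
    rw [hFΓ] at h4
    omega
  obtain ⟨δ, hδ⟩ := Finset.card_eq_one.mp h5
  have hδmem : δ ∈ F \ Γ := by rw [hδ]; exact Finset.mem_singleton_self δ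
  rw [Finset.mem_sdiff, hF, Finset.mem_filter] at hδmem
  refine ⟨δ, hδmem.2, hδmem.1.2, ?_⟩
  intro δ' hδ' hgδ'
  have : δ' ∈ F \ Γ := by
    rw [Finset.mem_sdiff, hF, Finset.mem_filter]
    exact ⟨⟨Finset.mem_univ _, hgδ'⟩, hδ'⟩
  rw [hδ] at this
  exact Finset.mem_singleton.mp this

theorem bk_dt_comm (h : Cfg G k)
    (hfix : ∀ Γ : Finset α, Γ.card + 1 = k → ∀ g, IsDT G Γ g →
      ∃ δ, δ ∉ Γ ∧ g δ = δ ∧ ∀ δ', δ' ∉ Γ → g δ' = δ' → δ' = δ) :
    ∀ Γ : Finset α, Γ.card + 1 = k → ∀ g g', IsDT G Γ g → IsDT G Γ g' →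
    (∀ x ∈ Γ, g (g' x) = g' (g x)) → ∀ δ, δ ∉ Γ → g δ = δ → g' δ = δ := by
  intro Γ hΓ g g' hg hg' hcomm δ hδ hgδ
  have hc : g * g' = g' * g := by
    apply h.eq_of_agree (G.mul_mem hg.1 hg'.1) (G.mul_mem hg'.1 hg.1) (S := Γ) (by omega)
    intro x hx
    rw [Equiv.Perm.mul_apply, Equiv.Perm.mul_apply]
    exact hcomm x hx
  obtain ⟨δ₀, hδ₀, hgδ₀, huniq⟩ := hfix Γ hΓ g hg
  have h1 : g (g' δ) = g' δ := by
    rw [← Equiv.Perm.mul_apply, hc, Equiv.Perm.mul_apply, hgδ]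
  have h2 : g' δ ∉ Γ := by
    intro hmem
    have := hg'.2.2.1 _ hmem
    rw [← Equiv.Perm.mul_apply, hg'.2.1, Equiv.Perm.one_apply] at this
    exact hδ this
  rw [huniq _ h2 h1, ← huniq δ hδ hgδ]

theorem bk_of_cfg (h : Cfg G k) (_w : WK G k) (sk : SK G k)
    (heven : Even (Fintype.card α - k)) (hk5 : 5 ≤ k) : BK G k :=
  have hfix := bk_dt_fix h sk heven
  { dt_exists := bk_dt_exists h sk heven hk5
    dt_fix := hfix
    dt_comm := bk_dt_comm h hfix }

end Cfsg.Agent.Lib.Helper1.LW
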