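import Mathlib
import Cfsg.Agent.Lib.Helper1.LW.Basic

/-!
# Livingstone–Wagner (S0746): package B-II (`k ≥ 7`: all double transpositions of a `(k-1)`-set
share their fixed point outside the set)
-/

set_option autoImplicit false

namespace Cfsg.Agent.Lib.Helper1.LW

variable {α : Type*} [Fintype α] [DecidableEq α] {G : Subgroup (Equiv.Perm α)} {k : ℕ}

/-- the support (inside `Γ`) of a permutation -/
def dsupp (Γ : Finset α) (g : Equiv.Perm α) : Finset α := Γ.filter (fun x => g x ≠ x)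

omit [Fintype α] in
theorem IsDT.map_dsupp {Γ : Finset α} {g : Equiv.Perm α} (hg : IsDT G Γ g) {x : α}
    (hx : x ∈ dsupp Γ g) : g x ∈ dsupp Γ g := by
  unfold dsupp at hx ⊢
  rw [Finset.mem_filter] at hx ⊢
  refine ⟨hg.2.2.1 x hx.1, ?_⟩
  intro hcon
  exact hx.2 (g.injective hcon)

omit [Fintype α] in
theorem IsDT.apply_apply {Γ : Finset α} {g : Equiv.Perm α} (hg : IsDT G Γ g) (x : α) :
    g (g x) = x := by
  rw [← Equiv.Perm.mul_apply, hg.2.1, Equiv.Perm.one_apply]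

omit [Fintype α] in
/-- two double transpositions with the same support commute on `Γ` -/
theorem IsDT.comm_of_dsupp_eq {Γ : Finset α} {g g' : Equiv.Perm α} (hg : IsDT G Γ g)
    (hg' : IsDT G Γ g') (hS : dsupp Γ g = dsupp Γ g') : ∀ x ∈ Γ, g (g' x) = g' (g x) := by
  intro x hxΓ
  by_cases hx : x ∈ dsupp Γ g
  · have hx' : x ∈ dsupp Γ g' := hS ▸ hx
    have hgx : g x ∈ dsupp Γ g := hg.map_dsupp hx
    have hg'x : g' x ∈ dsupp Γ g := hS ▸ hg'.map_dsupp hx'
    have hgx_ne : g x ≠ x := (Finset.mem_filter.mp hx).2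
    have hg'x_ne : g' x ≠ x := (Finset.mem_filter.mp hx').2
    by_cases heq : g x = g' x
    · rw [← heq, hg.apply_apply, heq, hg'.apply_apply]
    · -- the fourth point
      have hy : g (g' x) ∈ dsupp Γ g := hg.map_dsupp hg'x
      have hy' : g' (g x) ∈ dsupp Γ g := hS ▸ hg'.map_dsupp (hS ▸ hgx)
      have hT : ({x, g x, g' x} : Finset α) ⊆ dsupp Γ g := by
        intro z hz
        simp only [Finset.mem_insert, Finset.mem_singleton] at hz
        rcases hz with rfl | rfl | rfl <;> assumption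
      have hTc : ({x, g x, g' x} : Finset α).card = 3 := by
        rw [Finset.card_insert_of_notMem (by simp [Ne.symm hgx_ne, Ne.symm hg'x_ne]),
          Finset.card_pair heq]
      have hc : (dsupp Γ g \ {x, g x, g' x}).card = 1 := by
        rw [Finset.card_sdiff_of_subset hT, hTc]
        have : (dsupp Γ g).card = 4 := hg.2.2.2
        omega
      have hyn : g (g' x) ∈ dsupp Γ g \ {x, g x, g' x} := by
        rw [Finset.mem_sdiff]
        refine ⟨hy, ?_⟩
        simp only [Finset.mem_insert, Finset.mem_singleton]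
        rintro (h1 | h1 | h1)
        · apply heq
          have := congrArg g h1
          rw [hg.apply_apply] at this
          exact this.symm
        · exact hg'x_ne (g.injective h1)
        · exact (Finset.mem_filter.mp hg'x).2 h1
      have hy'n : g' (g x) ∈ dsupp Γ g \ {x, g x, g' x} := by
        rw [Finset.mem_sdiff]
        refine ⟨hy', ?_⟩
        simp only [Finset.mem_insert, Finset.mem_singleton]
        rintro (h1 | h1 | h1)
        · apply heq
          have := congrArg g' h1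
          rw [hg'.apply_apply] at this
          exact this
        · have : g x ∈ dsupp Γ g' := hS ▸ hgx
          exact (Finset.mem_filter.mp this).2 h1
        · exact hgx_ne (g'.injective h1)
      obtain ⟨z, hz⟩ := Finset.card_eq_one.mp hc
      rw [hz, Finset.mem_singleton] at hyn hy'n
      rw [hyn, hy'n]
  · have hx' : x ∉ dsupp Γ g' := hS ▸ hx
    have h1 : g x = x := by
      by_contra hcon
      exact hx (Finset.mem_filter.mpr ⟨hxΓ, hcon⟩)
    have h2 : g' x = x := by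
      by_contra hcon
      exact hx' (Finset.mem_filter.mpr ⟨hxΓ, hcon⟩)
    rw [h1, h2, h1]

/-- the explicit double transposition `(a b)(c d)` is an `IsDT` with support `{a,b,c,d}` -/
theorem isDT_of_swaps (h : Cfg G k) {Γ : Finset α} (hΓ : Γ.card + 1 = k) {a b c d : α}
    (ha : a ∈ Γ) (hb : b ∈ Γ) (hc : c ∈ Γ) (hd : d ∈ Γ)
    (hab : a ≠ b) (hac : a ≠ c) (had : a ≠ d) (hbc : b ≠ c) (hbd : b ≠ d) (hcd : c ≠ d)
    {g : Equiv.Perm α} (hg : g ∈ G) (hfix : FixOn g (Γ \ {a, b, c, d})) (hab' : Swaps g a b)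
    (hcd' : Swaps g c d) : IsDT G Γ g ∧ dsupp Γ g = {a, b, c, d} := by
  have hval : ∀ x ∈ Γ, (x = a ∧ g x = b) ∨ (x = b ∧ g x = a) ∨ (x = c ∧ g x = d) ∨
      (x = d ∧ g x = c) ∨ (x ∉ ({a, b, c, d} : Finset α) ∧ g x = x) := by
    intro x hx
    by_cases h1 : x = a
    · left; exact ⟨h1, h1 ▸ hab'.1⟩
    by_cases h2 : x = b
    · right; left; exact ⟨h2, h2 ▸ hab'.2⟩
    by_cases h3 : x = c
    · right; right; left; exact ⟨h3, h3 ▸ hcd'.1⟩
    by_cases h4 : x = d
    · right; right; right; left; exact ⟨h4, h4 ▸ hcd'.2⟩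
    right; right; right; right
    have : x ∉ ({a, b, c, d} : Finset α) := by simp [h1, h2, h3, h4]
    exact ⟨this, hfix x (Finset.mem_sdiff.mpr ⟨hx, this⟩)⟩
  have hgg : g * g = 1 := by
    apply h.eq_one_of_fixOn (G.mul_mem hg hg) (S := Γ) (by omega)
    intro x hx
    rw [Equiv.Perm.mul_apply]
    rcases hval x hx with ⟨rfl, h1⟩ | ⟨rfl, h1⟩ | ⟨rfl, h1⟩ | ⟨rfl, h1⟩ | ⟨_, h1⟩
    · rw [h1, hab'.2]
    · rw [h1, hab'.1]
    · rw [h1, hcd'.2]
    · rw [h1, hcd'.1]
    · rw [h1, h1]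
  have hstab : ∀ x ∈ Γ, g x ∈ Γ := by
    intro x hx
    rcases hval x hx with ⟨_, h1⟩ | ⟨_, h1⟩ | ⟨_, h1⟩ | ⟨_, h1⟩ | ⟨_, h1⟩ <;> rw [h1] <;> assumption
  have hsupp : dsupp Γ g = {a, b, c, d} := by
    ext x
    unfold dsupp
    rw [Finset.mem_filter]
    constructor
    · rintro ⟨hx, hne⟩
      rcases hval x hx with ⟨rfl, _⟩ | ⟨rfl, _⟩ | ⟨rfl, _⟩ | ⟨rfl, _⟩ | ⟨_, h1⟩
      · simp
      · simp
      · simp
      · simp
      · exact absurd h1 hne
    · intro hx
      simp only [Finset.mem_insert, Finset.mem_singleton] at hx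
      rcases hx with rfl | rfl | rfl | rfl
      · exact ⟨ha, by rw [hab'.1]; exact Ne.symm hab⟩
      · exact ⟨hb, by rw [hab'.2]; exact hab⟩
      · exact ⟨hc, by rw [hcd'.1]; exact Ne.symm hcd⟩
      · exact ⟨hd, by rw [hcd'.2]; exact hcd⟩
  refine ⟨⟨hg, hgg, hstab, ?_⟩, hsupp⟩
  change (dsupp Γ g).card = 4
  rw [hsupp, Finset.card_insert_of_notMem (by simp [hab, hac, had]),
    Finset.card_insert_of_notMem (by simp [hbc, hbd]), Finset.card_pair hcd]

omit [Fintype α] in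
theorem four_perm_a (a b c d : α) : ({a, b, c, d} : Finset α) = {c, d, a, b} := by
  ext z
  simp only [Finset.mem_insert, Finset.mem_singleton]
  constructor
  · rintro (hz | hz | hz | hz) <;> simp [hz]
  · rintro (hz | hz | hz | hz) <;> simp [hz]

omit [Fintype α] in
theorem four_perm_b (a b c d : α) : ({a, b, c, d} : Finset α) = {a, c, b, d} := by
  ext z
  simp only [Finset.mem_insert, Finset.mem_singleton]
  constructor
  · rintro (hz | hz | hz | hz) <;> simp [hz]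
  · rintro (hz | hz | hz | hz) <;> simp [hz]

omit [Fintype α] in
theorem four_perm_c (a b c d : α) : ({a, b, c, d} : Finset α) = insert d {a, b, c} := by
  ext z
  simp only [Finset.mem_insert, Finset.mem_singleton]
  constructor
  · rintro (hz | hz | hz | hz) <;> simp [hz]
  · rintro (hz | hz | hz | hz) <;> simp [hz]

/-- `δ` is fixed by all double transpositions of `Γ` with support `S` -/
def PFix (G : Subgroup (Equiv.Perm α)) (Γ S : Finset α) (δ : α) : Prop :=
  ∀ g, IsDT G Γ g → dsupp Γ g = S → g δ = δ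

omit [Fintype α] in
/-- if one double transposition with support `S` fixes `δ ∉ Γ`, all of them do -/
theorem pfix_of_one (bk : BK G k) {Γ : Finset α} (hΓ : Γ.card + 1 = k) {g₀ : Equiv.Perm α}
    (hg₀ : IsDT G Γ g₀) {δ : α} (hδ : δ ∉ Γ) (hgδ : g₀ δ = δ) : PFix G Γ (dsupp Γ g₀) δ := by
  intro g hg hS
  exact bk.dt_comm Γ hΓ g₀ g hg₀ hg (hg₀.comm_of_dsupp_eq hg hS.symm) δ hδ hgδ

/-- step `|S ∩ S'| = 2` -/
theorem pfix_step2 (h : Cfg G k) (bk : BK G k) {Γ : Finset α} (hΓ : Γ.card + 1 = k)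
    {a b c d e f : α} (ha : a ∈ Γ) (hb : b ∈ Γ) (hc : c ∈ Γ) (hd : d ∈ Γ) (he : e ∈ Γ) (hf : f ∈ Γ)
    (hab : a ≠ b) (hac : a ≠ c) (had : a ≠ d) (hae : a ≠ e) (haf : a ≠ f)
    (hbc : b ≠ c) (hbd : b ≠ d) (hbe : b ≠ e) (hbf : b ≠ f)
    (hcd : c ≠ d) (hce : c ≠ e) (hcf : c ≠ f) (hde : d ≠ e) (hdf : d ≠ f) (hef : e ≠ f)
    {δ : α} (hδ : δ ∉ Γ) (hP : PFix G Γ {a, b, c, d} δ) : PFix G Γ {a, b, e, f} δ := by
  obtain ⟨g1, hg1, hfix1, hab1, hcd1⟩ := bk.dt_exists Γ hΓ a ha b hb c hc d hd hab hac had hbc hbd hcd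
  obtain ⟨g2, hg2, hfix2, hab2, hef2⟩ := bk.dt_exists Γ hΓ a ha b hb e he f hf hab hae haf hbe hbf hef
  obtain ⟨hdt1, hs1⟩ := isDT_of_swaps h hΓ ha hb hc hd hab hac had hbc hbd hcd hg1 hfix1 hab1 hcd1
  obtain ⟨hdt2, hs2⟩ := isDT_of_swaps h hΓ ha hb he hf hab hae haf hbe hbf hef hg2 hfix2 hab2 hef2
  have h1δ : g1 δ = δ := hP g1 hdt1 hs1
  have hcomm : ∀ x ∈ Γ, g1 (g2 x) = g2 (g1 x) := by
    intro x hx
    have h2c : g2 c = c := hfix2 c (by simp [hc, hac.symm, hbc.symm, hce, hcf])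
    have h2d : g2 d = d := hfix2 d (by simp [hd, had.symm, hbd.symm, hde, hdf])
    have h1e : g1 e = e := hfix1 e (by simp [he, hae.symm, hbe.symm, hce.symm, hde.symm])
    have h1f : g1 f = f := hfix1 f (by simp [hf, haf.symm, hbf.symm, hcf.symm, hdf.symm])
    by_cases x1 : x = a
    · rw [x1, hab2.1, hab1.2, hab1.1, hab2.2]
    by_cases x2 : x = b
    · rw [x2, hab2.2, hab1.1, hab1.2, hab2.1]
    by_cases x3 : x = c
    · rw [x3, h2c, hcd1.1, h2d]
    by_cases x4 : x = d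
    · rw [x4, h2d, hcd1.2, h2c]
    by_cases x5 : x = e
    · rw [x5, hef2.1, h1f, h1e, hef2.1]
    by_cases x6 : x = f
    · rw [x6, hef2.2, h1e, h1f, hef2.2]
    have hx1 : g1 x = x := hfix1 x (by simp [hx, x1, x2, x3, x4])
    have hx2 : g2 x = x := hfix2 x (by simp [hx, x1, x2, x5, x6])
    rw [hx2, hx1, hx2]
  have h2δ : g2 δ = δ := bk.dt_comm Γ hΓ g1 g2 hdt1 hdt2 hcomm δ hδ h1δ
  have := pfix_of_one bk hΓ hdt2 hδ h2δ
  rw [hs2] at this
  exact this

/-- step `|S ∩ S'| = 3` -/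
theorem pfix_step3 (h : Cfg G k) (bk : BK G k) {Γ : Finset α} (hΓ : Γ.card + 1 = k) (hk7 : 7 ≤ k)
    {a b c d e : α} (ha : a ∈ Γ) (hb : b ∈ Γ) (hc : c ∈ Γ) (hd : d ∈ Γ) (he : e ∈ Γ)
    (hab : a ≠ b) (hac : a ≠ c) (had : a ≠ d) (hae : a ≠ e)
    (hbc : b ≠ c) (hbd : b ≠ d) (hbe : b ≠ e) (hcd : c ≠ d) (hce : c ≠ e) (hde : d ≠ e)
    {δ : α} (hδ : δ ∉ Γ) (hP : PFix G Γ {a, b, c, d} δ) : PFix G Γ {a, b, c, e} δ := by
  -- a sixth point
  have hcard5 : ({a, b, c, d, e} : Finset α).card = 5 := by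
    rw [Finset.card_insert_of_notMem (by simp [hab, hac, had, hae]),
      Finset.card_insert_of_notMem (by simp [hbc, hbd, hbe]),
      Finset.card_insert_of_notMem (by simp [hcd, hce]), Finset.card_pair hde]
  obtain ⟨f, hfΓ, hfn⟩ : ∃ f ∈ Γ, f ∉ ({a, b, c, d, e} : Finset α) := by
    by_contra hcon
    push Not at hcon
    have : Γ ⊆ ({a, b, c, d, e} : Finset α) := hcon
    have := Finset.card_le_card this
    omega
  simp only [Finset.mem_insert, Finset.mem_singleton, not_or] at hfn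
  obtain ⟨hfa, hfb, hfc, hfd, hfe⟩ := hfn
  have e1 : ({a, b, c, d} : Finset α) = {c, d, a, b} := four_perm_a a b c d
  have e2 : ({c, d, e, f} : Finset α) = {c, e, d, f} := four_perm_b c d e f
  have e3 : ({c, e, a, b} : Finset α) = {a, b, c, e} := four_perm_a c e a b
  rw [e1] at hP
  have h1 : PFix G Γ {c, d, e, f} δ :=
    pfix_step2 h bk hΓ hc hd ha hb he hfΓ hcd hac.symm hbc.symm hce (Ne.symm hfc) had.symm
      hbd.symm hde (Ne.symm hfd) hab hae (Ne.symm hfa) hbe (Ne.symm hfb) (Ne.symm hfe) hδ hP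
  rw [e2] at h1
  have h2 : PFix G Γ {c, e, a, b} δ :=
    pfix_step2 h bk hΓ hc he hd hfΓ ha hb hce hcd (Ne.symm hfc) hac.symm hbc.symm hde.symm
      (Ne.symm hfe) hae.symm hbe.symm (Ne.symm hfd) had.symm hbd.symm hfa hfb hab hδ h1
  rw [e3] at h2
  exact h2

theorem common_fix_of_seven_le (h : Cfg G k) (_w : WK G k) (bk : BK G k) (hk7 : 7 ≤ k) :
    ∀ Γ : Finset α, Γ.card + 1 = k → ∃ δ, δ ∉ Γ ∧ ∀ g, IsDT G Γ g → g δ = δ := by
  intro Γ hΓ
  -- a first double transposition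
  obtain ⟨S₀, hS₀Γ, hS₀c⟩ := Finset.exists_subset_card_eq (s := Γ) (n := 4) (by omega)
  obtain ⟨a, b, c, d, hab, hac, had, hbc, hbd, hcd, hS₀⟩ := Finset.card_eq_four.mp hS₀c
  have ha : a ∈ Γ := hS₀Γ (by rw [hS₀]; simp)
  have hb : b ∈ Γ := hS₀Γ (by rw [hS₀]; simp)
  have hc : c ∈ Γ := hS₀Γ (by rw [hS₀]; simp)
  have hd : d ∈ Γ := hS₀Γ (by rw [hS₀]; simp)
  obtain ⟨g₀, hg₀, hfix₀, hab₀, hcd₀⟩ :=
    bk.dt_exists Γ hΓ a ha b hb c hc d hd hab hac had hbc hbd hcd
  obtain ⟨hdt₀, hs₀⟩ := isDT_of_swaps h hΓ ha hb hc hd hab hac had hbc hbd hcd hg₀ hfix₀ hab₀ hcd₀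
  obtain ⟨δ, hδ, hg₀δ, -⟩ := bk.dt_fix Γ hΓ g₀ hdt₀
  have hP₀ : PFix G Γ S₀ δ := by
    have := pfix_of_one bk hΓ hdt₀ hδ hg₀δ
    rw [hs₀, ← hS₀] at this
    exact this
  -- all 4-subsets
  have hall : ∀ n : ℕ, ∀ S : Finset α, S ⊆ Γ → S.card = 4 → (S \ S₀).card = n → PFix G Γ S δ := by
    intro n
    induction n with
    | zero =>
      intro S _ hSc hn
      have h1 : S ⊆ S₀ := Finset.sdiff_eq_empty_iff_subset.mp (Finset.card_eq_zero.mp hn)
      have h2 : S = S₀ := Finset.eq_of_subset_of_card_le h1 (by omega)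
      rw [h2]; exact hP₀
    | succ n ih =>
      intro S hSΓ hSc hn
      obtain ⟨x, hx⟩ : (S \ S₀).Nonempty := by
        rw [← Finset.card_pos]; omega
      have hxS : x ∈ S := (Finset.mem_sdiff.mp hx).1
      have hxS₀ : x ∉ S₀ := (Finset.mem_sdiff.mp hx).2
      obtain ⟨y, hy⟩ : (S₀ \ S).Nonempty := by
        rw [← Finset.card_pos]
        have h1 := Finset.card_sdiff_add_card_inter S S₀
        have h2 := Finset.card_sdiff_add_card_inter S₀ S
        rw [Finset.inter_comm] at h2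
        omega
      have hyS₀ : y ∈ S₀ := (Finset.mem_sdiff.mp hy).1
      have hyS : y ∉ S := (Finset.mem_sdiff.mp hy).2
      have hec : (S.erase x).card = 3 := by rw [Finset.card_erase_of_mem hxS]; omega
      obtain ⟨p, q, r, hpq, hpr, hqr, hE⟩ := Finset.card_eq_three.mp hec
      have hpE : p ∈ S.erase x := by rw [hE]; simp
      have hqE : q ∈ S.erase x := by rw [hE]; simp
      have hrE : r ∈ S.erase x := by rw [hE]; simp
      have hpS := (Finset.mem_erase.mp hpE)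
      have hqS := (Finset.mem_erase.mp hqE)
      have hrS := (Finset.mem_erase.mp hrE)
      have hyp : y ≠ p := fun hh => hyS (hh ▸ hpS.2)
      have hyq : y ≠ q := fun hh => hyS (hh ▸ hqS.2)
      have hyr : y ≠ r := fun hh => hyS (hh ▸ hrS.2)
      have hxy : x ≠ y := fun hh => hxS₀ (hh ▸ hyS₀)
      -- the set S' = {p, q, r, y}
      have hS' : ({p, q, r, y} : Finset α) = insert y (S.erase x) := by
        rw [hE]; exact four_perm_c p q r y
      have hS'Γ : ({p, q, r, y} : Finset α) ⊆ Γ := by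
        rw [hS']
        intro z hz
        rcases Finset.mem_insert.mp hz with rfl | hz
        · exact hS₀Γ hyS₀
        · exact hSΓ (Finset.mem_of_mem_erase hz)
      have hS'c : ({p, q, r, y} : Finset α).card = 4 := by
        rw [hS', Finset.card_insert_of_notMem (fun hh => hyS (Finset.mem_of_mem_erase hh)), hec]
      have hS'n : (({p, q, r, y} : Finset α) \ S₀).card = n := by
        have h1 : ({p, q, r, y} : Finset α) \ S₀ = (S \ S₀).erase x := by
          rw [hS']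
          ext z
          simp only [Finset.mem_sdiff, Finset.mem_insert, Finset.mem_erase]
          constructor
          · rintro ⟨hz | hz, hzn⟩
            · exact absurd (hz ▸ hyS₀) hzn
            · exact ⟨hz.1, hz.2, hzn⟩
          · rintro ⟨hzx, hzS, hzn⟩
            exact ⟨Or.inr ⟨hzx, hzS⟩, hzn⟩
        rw [h1, Finset.card_erase_of_mem hx, hn]
        rfl
      have hP' := ih _ hS'Γ hS'c hS'n
      have hS : S = {p, q, r, x} := by
        have : S = insert x (S.erase x) := (Finset.insert_erase hxS).symm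
        rw [this, hE]; exact (four_perm_c p q r x).symm
      rw [hS]
      exact pfix_step3 h bk hΓ hk7 (hSΓ hpS.2) (hSΓ hqS.2) (hSΓ hrS.2) (hS₀Γ hyS₀) (hSΓ hxS)
        hpq hpr (Ne.symm hyp) hpS.1 hqr (Ne.symm hyq) hqS.1 (Ne.symm hyr) hrS.1 (Ne.symm hxy)
        hδ hP'
  refine ⟨δ, hδ, fun g hg => ?_⟩
  have hsub : dsupp Γ g ⊆ Γ := Finset.filter_subset _ _
  exact hall _ (dsupp Γ g) hsub hg.2.2.2 rfl g hg rfl

end Cfsg.Agent.Lib.Helper1.LW
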