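import Mathlib

/-!
# Livingstone–Wagner, second statement (S0745): the numerics of the commutator argument
-/

set_option autoImplicit false

namespace Cfsg.Agent.Lib.Helper1.LW

/-- COMM (numerics), with `r = 2`. -/
theorem comm_num {k s n : ℕ} (hk6 : 6 ≤ k) (hn : n + 1 ≤ 2 * k) (hkn : k + 1 ≤ n)
    (hrs : s * 2 + k = n + 2) (hodd : Odd s)
    (hb : ∀ p : ℕ, p.Prime → p ∣ s →
      (2 * s + 2 ≤ k → 2 * s ≤ 3) ∧
      (∀ j, j + k = 2 * s + 3 → 1 ≤ j → j ≤ p → 2 * s ≤ j + p) ∧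
      (∀ j, j + k = 2 * s + 3 → p < j → j ≤ 2 * p → 2 * s ≤ j + 2 * p)) :
    k = 6 ∧ n = 10 ∧ s = 3 := by
  obtain ⟨m, hm⟩ := hodd
  have hs3 : 3 ≤ s := by omega
  have hp : (s.minFac).Prime := Nat.minFac_prime (by omega)
  have hps : s.minFac ∣ s := Nat.minFac_dvd s
  have hple : s.minFac ≤ s := Nat.minFac_le (by omega)
  have hp2 : s.minFac ≠ 2 := by
    intro h2
    rw [h2] at hps
    obtain ⟨c, hc⟩ := hps
    omega
  have hp3 : 3 ≤ s.minFac := by
    have := hp.two_le
    omega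
  obtain ⟨h1, h2, h3⟩ := hb s.minFac hp hps
  generalize s.minFac = p at *
  have hk1 : k ≤ 2 * s + 1 := by
    by_contra hcon
    have := h1 (by omega)
    omega
  have hj : (2 * s + 3 - k) + k = 2 * s + 3 := by omega
  by_cases hjp : 2 * s + 3 - k ≤ p
  · have h4 := h2 (2 * s + 3 - k) hj (by omega) hjp
    have hs : s = 3 := by omega
    subst hs
    have hp' : p = 3 := by omega
    subst hp'
    omega
  · have h4 := h3 (2 * s + 3 - k) hj (by omega) (by omega)
    exfalso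
    obtain ⟨c, hc⟩ := hps
    have hp' : p = 3 := by omega
    subst hp'
    omega

end Cfsg.Agent.Lib.Helper1.LW
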