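import Mathlib
import Cfsg.Agent.Lib.Helper1.LW.Basic

/-!
# Livingstone–Wagner (S0746): package W
-/

set_option autoImplicit false
open scoped Pointwise

namespace Cfsg.Agent.Lib.Helper1.LW

variable {α : Type*} [Fintype α] [DecidableEq α] {G : Subgroup (Equiv.Perm α)} {k : ℕ}

/-- tuple transitivity of pointwise stabilisers -/
theorem Cfg.exists_fixOn_map (h : Cfg G k) (Λ : Finset α) (m : ℕ) (hm : Λ.card + m + 2 ≤ k)
    (x y : Fin m ↪ α) (hx : ∀ i, x i ∉ Λ) (hy : ∀ i, y i ∉ Λ) :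
    ∃ g ∈ G, FixOn g Λ ∧ ∀ i, g (x i) = y i := by
  have htr : MulAction.IsMultiplyPretransitive G α (k - 2) := h.trans
  have hkn := h.hkn
  have hn : ((k - 2 : ℕ) : ENat) ≤ ENat.card α := by
    rw [ENat.card_eq_coe_fintype_card]
    exact_mod_cast (by omega : k - 2 ≤ Fintype.card α)
  have hnc : (Λ : Set α).ncard + m ≤ k - 2 := by
    rw [Set.ncard_coe_finset]; omega
  have hpre := SubMulAction.ofFixingSubgroup.isMultiplyPretransitive' (G := G) (m := m)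
    (n := k - 2) (Λ : Set α) hnc hn
  let x' : Fin m ↪ SubMulAction.ofFixingSubgroup G (Λ : Set α) :=
    ⟨fun i => ⟨x i, fun hmem => hx i (Finset.mem_coe.mp hmem)⟩, fun i j hij => by
      have := congrArg Subtype.val hij
      exact x.injective this⟩
  let y' : Fin m ↪ SubMulAction.ofFixingSubgroup G (Λ : Set α) :=
    ⟨fun i => ⟨y i, fun hmem => hy i (Finset.mem_coe.mp hmem)⟩, fun i j hij => by
      have := congrArg Subtype.val hij
      exact y.injective this⟩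
  obtain ⟨g, hg⟩ := hpre.exists_smul_eq x' y'
  refine ⟨((g : G) : Equiv.Perm α), (g : G).2, ?_, ?_⟩
  · intro z hz
    have := (mem_fixingSubgroup_iff G).mp g.2 z (Finset.mem_coe.mpr hz)
    exact this
  · intro i
    have h1 := congrArg (fun f : Fin m ↪ SubMulAction.ofFixingSubgroup G (Λ : Set α) => ((f i : _) : α)) hg
    exact h1

theorem wk_tr1 (h : Cfg G k) : ∀ Λ : Finset α, Λ.card + 3 = k → ∀ a b, a ∉ Λ → b ∉ Λ →
    ∃ g ∈ G, FixOn g Λ ∧ g a = b := by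
  intro Λ hΛ a b ha hb
  obtain ⟨g, hg, hfix, hmap⟩ := h.exists_fixOn_map Λ 1 (by omega)
    ⟨fun _ => a, fun i j _ => Subsingleton.elim i j⟩ ⟨fun _ => b, fun i j _ => Subsingleton.elim i j⟩
    (fun _ => ha) (fun _ => hb)
  exact ⟨g, hg, hfix, hmap 0⟩

theorem wk_sw (h : Cfg G k) : ∀ Λ : Finset α, Λ.card + 4 ≤ k → ∀ a b, a ∉ Λ → b ∉ Λ → a ≠ b →
    ∃ g ∈ G, FixOn g Λ ∧ Swaps g a b := by
  intro Λ hΛ a b ha hb hab
  have hinj1 : Function.Injective (![a, b] : Fin 2 → α) := by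
    intro i j hij
    fin_cases i <;> fin_cases j <;> simp_all
  have hinj2 : Function.Injective (![b, a] : Fin 2 → α) := by
    intro i j hij
    fin_cases i <;> fin_cases j <;> simp_all [eq_comm]
  obtain ⟨g, hg, hfix, hmap⟩ := h.exists_fixOn_map Λ 2 (by omega)
    ⟨![a, b], hinj1⟩ ⟨![b, a], hinj2⟩
    (fun i => by fin_cases i <;> simp [ha, hb]) (fun i => by fin_cases i <;> simp [ha, hb])
  refine ⟨g, hg, hfix, ?_, ?_⟩
  · simpa using hmap 0
  · simpa using hmap 1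

omit [Fintype α] in
theorem exists_map_of_homog (G : Subgroup (Equiv.Perm α)) {j : ℕ}
    (hh : MulAction.IsPretransitive G (Set.powersetCard α j)) (s s' : Finset α)
    (hs : s.card = j) (hs' : s'.card = j) :
    ∃ g ∈ G, ∀ x, x ∈ s ↔ g x ∈ s' := by
  obtain ⟨g, hg⟩ := hh.exists_smul_eq (⟨s, Set.powersetCard.mem_iff.mpr hs⟩ : Set.powersetCard α j)
    ⟨s', Set.powersetCard.mem_iff.mpr hs'⟩
  refine ⟨(g : Equiv.Perm α), g.2, fun x => ?_⟩
  have h1 : g • s = s' := congrArg Subtype.val hg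
  rw [← h1]
  constructor
  · intro hx
    exact Finset.smul_mem_smul_finset hx
  · intro hx
    rw [Finset.mem_smul_finset] at hx
    obtain ⟨y, hy, hyx⟩ := hx
    have : y = x := by
      have h2 : (g : Equiv.Perm α) y = (g : Equiv.Perm α) x := hyx
      exact (g : Equiv.Perm α).injective h2
    rw [← this]; exact hy

theorem wk_conj2 (h : Cfg G k) : ∀ Γ Γ' : Finset α, Γ.card + 2 = k → Γ'.card + 2 = k →
    ∃ g ∈ G, ∀ x, x ∈ Γ ↔ g x ∈ Γ' := by
  intro Γ Γ' hΓ hΓ'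
  have htr : MulAction.IsMultiplyPretransitive G α (k - 2) := h.trans
  have hh := Set.powersetCard.isPretransitive_of_isMultiplyPretransitive (G := G) (α := α) htr
  exact exists_map_of_homog G hh Γ Γ' (by omega) (by omega)

theorem wk_conj1 (h : Cfg G k) : ∀ Γ Γ' : Finset α, Γ.card + 1 = k → Γ'.card + 1 = k →
    ∃ g ∈ G, ∀ x, x ∈ Γ ↔ g x ∈ Γ' := by
  intro Γ Γ' hΓ hΓ'
  exact exists_map_of_homog G h.homog1 Γ Γ' (by omega) (by omega)

theorem wk_conj0 (h : Cfg G k) : ∀ Δ Δ' : Finset α, Δ.card = k → Δ'.card = k →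
    ∃ g ∈ G, ∀ x, x ∈ Δ ↔ g x ∈ Δ' := by
  intro Δ Δ' hΔ hΔ'
  exact exists_map_of_homog G h.homog Δ Δ' hΔ hΔ'

end Cfsg.Agent.Lib.Helper1.LW

namespace Cfsg.Agent.Lib.Helper1.LW

variable {α : Type*} [Fintype α] [DecidableEq α] {G : Subgroup (Equiv.Perm α)} {k : ℕ}

omit [Fintype α] in
/-- if all transpositions of `Γ` are induced by `G`, every permutation of `Γ` is -/
theorem induced_top (G : Subgroup (Equiv.Perm α)) (Γ : Finset α)
    (hsw : ∀ a ∈ Γ, ∀ b ∈ Γ, a ≠ b → ∃ g ∈ G, FixOn g (Γ \ {a, b}) ∧ Swaps g a b)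
    (σ : Equiv.Perm ↥Γ) : ∃ g ∈ G, ∀ x : ↥Γ, g (x : α) = ((σ x : ↥Γ) : α) := by
  let M : Subgroup (Equiv.Perm ↥Γ) :=
    { carrier := {σ | ∃ g ∈ G, ∀ x : ↥Γ, g (x : α) = ((σ x : ↥Γ) : α)}
      one_mem' := ⟨1, G.one_mem, fun x => rfl⟩
      mul_mem' := by
        rintro σ τ ⟨g, hg, hgσ⟩ ⟨g', hg', hgτ⟩
        refine ⟨g * g', G.mul_mem hg hg', fun x => ?_⟩
        rw [Equiv.Perm.mul_apply, hgτ x, hgσ (τ x), Equiv.Perm.mul_apply]
      inv_mem' := by
        rintro σ ⟨g, hg, hgσ⟩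
        refine ⟨g⁻¹, G.inv_mem hg, fun x => ?_⟩
        rw [Equiv.Perm.inv_eq_iff_eq, hgσ (σ⁻¹ x)]
        simp }
  have hM : M = ⊤ := by
    rw [eq_top_iff, ← Equiv.Perm.closure_isSwap, Subgroup.closure_le]
    rintro τ ⟨x, y, hxy, rfl⟩
    have hxy' : (x : α) ≠ (y : α) := fun h => hxy (Subtype.ext h)
    obtain ⟨g, hg, hfix, hsw'⟩ := hsw x x.2 y y.2 hxy'
    refine ⟨g, hg, fun z => ?_⟩
    by_cases hzx : z = x
    · rw [hzx, Equiv.swap_apply_left]; exact hsw'.1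
    · by_cases hzy : z = y
      · rw [hzy, Equiv.swap_apply_right]; exact hsw'.2
      · rw [Equiv.swap_apply_of_ne_of_ne hzx hzy]
        apply hfix
        rw [Finset.mem_sdiff]
        refine ⟨z.2, ?_⟩
        rw [Finset.mem_insert, Finset.mem_singleton]
        rintro (h | h)
        · exact hzx (Subtype.ext h)
        · exact hzy (Subtype.ext h)
  have : σ ∈ M := by rw [hM]; exact Subgroup.mem_top σ
  exact this

theorem wk_ns (h : Cfg G k) : ∀ Γ : Finset α, Γ.card + 1 = k →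
    ∃ a ∈ Γ, ∃ b ∈ Γ, a ≠ b ∧ ∀ g ∈ G, FixOn g (Γ \ {a, b}) → ¬ Swaps g a b := by
  intro Γ hΓ
  by_contra hcon
  push Not at hcon
  have hsw : ∀ a ∈ Γ, ∀ b ∈ Γ, a ≠ b → ∃ g ∈ G, FixOn g (Γ \ {a, b}) ∧ Swaps g a b := hcon
  apply h.ntrans
  refine ⟨fun x y => ?_⟩
  -- the images of `x` and `y`
  have hcx : (Finset.univ.map x).card + 1 = k := by
    rw [Finset.card_map, Finset.card_univ, Fintype.card_fin]; have := h.hk; omega
  have hcy : (Finset.univ.map y).card + 1 = k := by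
    rw [Finset.card_map, Finset.card_univ, Fintype.card_fin]; have := h.hk; omega
  obtain ⟨g1, hg1, hg1m⟩ := wk_conj1 h _ Γ hcx hΓ
  obtain ⟨g2, hg2, hg2m⟩ := wk_conj1 h _ Γ hcy hΓ
  have hx1 : ∀ i, g1 (x i) ∈ Γ := fun i => (hg1m (x i)).mp (Finset.mem_map_of_mem x (Finset.mem_univ i))
  have hy1 : ∀ i, g2 (y i) ∈ Γ := fun i => (hg2m (y i)).mp (Finset.mem_map_of_mem y (Finset.mem_univ i))
  let x1 : Fin (k - 1) → ↥Γ := fun i => ⟨g1 (x i), hx1 i⟩
  let y1 : Fin (k - 1) → ↥Γ := fun i => ⟨g2 (y i), hy1 i⟩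
  have hcard : Fintype.card (Fin (k - 1)) = Fintype.card ↥Γ := by
    rw [Fintype.card_fin, Fintype.card_coe]; omega
  have hx1i : Function.Injective x1 := by
    intro i j hij
    have := congrArg Subtype.val hij
    exact x.injective (g1.injective this)
  have hy1i : Function.Injective y1 := by
    intro i j hij
    have := congrArg Subtype.val hij
    exact y.injective (g2.injective this)
  have hx1b : Function.Bijective x1 := (Fintype.bijective_iff_injective_and_card x1).mpr ⟨hx1i, hcard⟩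
  have hy1b : Function.Bijective y1 := (Fintype.bijective_iff_injective_and_card y1).mpr ⟨hy1i, hcard⟩
  let σ : Equiv.Perm ↥Γ := (Equiv.ofBijective x1 hx1b).symm.trans (Equiv.ofBijective y1 hy1b)
  have hσ : ∀ i, σ (x1 i) = y1 i := by
    intro i
    change (Equiv.ofBijective y1 hy1b) ((Equiv.ofBijective x1 hx1b).symm (x1 i)) = y1 i
    have : (Equiv.ofBijective x1 hx1b).symm (x1 i) = i := by
      rw [Equiv.symm_apply_eq]; rfl
    rw [this]; rfl
  obtain ⟨t, ht, htσ⟩ := induced_top G Γ hsw σ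
  refine ⟨⟨g2⁻¹ * t * g1, G.mul_mem (G.mul_mem (G.inv_mem hg2) ht) hg1⟩, ?_⟩
  ext i
  change (g2⁻¹ * t * g1) (x i) = y i
  rw [Equiv.Perm.mul_apply, Equiv.Perm.mul_apply, Equiv.Perm.inv_eq_iff_eq]
  have h1 := htσ (x1 i)
  rw [hσ i] at h1
  exact h1

theorem wk_of_cfg (h : Cfg G k) : WK G k :=
  { tr1 := wk_tr1 h, sw := wk_sw h, conj2 := wk_conj2 h, conj1 := wk_conj1 h, conj0 := wk_conj0 h,
    ns := wk_ns h }

end Cfsg.Agent.Lib.Helper1.LW
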