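import Mathlib
import Cfsg.Agent.Lib.Helper1.LW.W
import Cfsg.Agent.Lib.Helper1.LW.S
import Cfsg.Agent.Lib.Helper1.LW.BI
import Cfsg.Agent.Lib.Helper1.LW.BII
import Cfsg.Agent.Lib.Helper9.LW_AI
import Cfsg.Agent.Lib.Helper9.LW_AII
import Cfsg.Agent.Lib.Helper2.LW_N
import Cfsg.Agent.Lib.Helper8.LW_BIV
import Cfsg.Agent.Lib.Helper5.LW_small
import Cfsg.Agent.Lib.Helper7.LW_BIII
import Cfsg.Agent.S0736
import Cfsg.Agent.S0744

/-!
# Livingstone–Wagner (S0746): assembling the packages
-/

set_option autoImplicit false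

namespace Cfsg.Agent.Lib.Helper1.LW

variable {α : Type*} [Fintype α] [DecidableEq α]

/-- The configuration of a minimal counterexample is contradictory. -/
theorem cfg_false {G : Subgroup (Equiv.Perm α)} {k : ℕ} (h : Cfg G k) : False := by
  have w := wk_of_cfg h
  have sk := sk_of_cfg h w
  obtain ⟨r, s, nk⟩ := nk_of_cfg h w
  have hk := h.hk
  have hkn := h.hkn
  by_cases hk5 : k ≤ 5
  · exact false_of_le_five h w sk nk hk5
  · rcases Nat.even_or_odd (Fintype.card α - k) with he | ho
    · have bk := bk_of_cfg h w sk he (by omega)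
      have hδ : ∀ Γ : Finset α, Γ.card + 1 = k → ∃ δ, δ ∉ Γ ∧ ∀ g, IsDT G Γ g → g δ = δ := by
        by_cases hk6 : k = 6
        · subst hk6
          exact common_fix_six h w sk nk bk he
        · exact common_fix_of_seven_le h w bk (by omega)
      exact false_of_common_fix h w bk (by omega) hδ
    · exact false_caseA h w (ak_of_cfg h w sk ho (by omega)) (by omega)

omit [Fintype α] [DecidableEq α] in
/-- conjugate subsets have fixing subgroups of the same order -/
theorem card_fixingSubgroup_of_map (G : Subgroup (Equiv.Perm α)) (g : G) (s s' : Finset α)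
    (hg : ∀ x, x ∈ s ↔ (g : Equiv.Perm α) x ∈ s') :
    Nat.card (fixingSubgroup G (s : Set α)) = Nat.card (fixingSubgroup G (s' : Set α)) := by
  have hmem : ∀ (t : Set α) (u : G), u ∈ fixingSubgroup G t ↔ ∀ y ∈ t, u • y = y :=
    fun t u => mem_fixingSubgroup_iff G
  refine Nat.card_congr
    { toFun := fun u => ⟨g * u.1 * g⁻¹, ?_⟩
      invFun := fun u => ⟨g⁻¹ * u.1 * g, ?_⟩
      left_inv := fun u => by apply Subtype.ext; simp [mul_assoc]
      right_inv := fun u => by apply Subtype.ext; simp [mul_assoc] }
  · rw [hmem]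
    intro y hy
    have hy' : y ∈ s' := hy
    have h1 : (g⁻¹ : G) • y ∈ s := by
      rw [hg]
      change (g : Equiv.Perm α) ((g⁻¹ : G) • y) ∈ s'
      have : (g : Equiv.Perm α) ((g⁻¹ : G) • y) = y := by
        change (g : Equiv.Perm α) (((g⁻¹ : G) : Equiv.Perm α) y) = y
        simp
      rw [this]; exact hy'
    have h2 := (hmem _ u.1).mp u.2 _ (Finset.mem_coe.mpr h1)
    rw [mul_smul, mul_smul, h2, smul_inv_smul]
  · rw [hmem]
    intro y hy
    have hy' : y ∈ s := hy
    have h1 : g • y ∈ s' := (hg y).mp hy'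
    have h2 := (hmem _ u.1).mp u.2 _ (Finset.mem_coe.mpr h1)
    rw [mul_smul, mul_smul, h2, inv_smul_smul]

/-- The Livingstone–Wagner theorem, first form. -/
theorem lw_main (G : Subgroup (Equiv.Perm α)) :
    ∀ k : ℕ, 2 ≤ k → 2 * k ≤ Fintype.card α →
      MulAction.IsPretransitive G (Set.powersetCard α k) →
      MulAction.IsMultiplyPretransitive G α (k - 1) := by
  intro k
  induction k using Nat.strong_induction_on with
  | _ k ih =>
  intro hk hkn hh
  have hh1 : MulAction.IsPretransitive G (Set.powersetCard α (k - 1)) := by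
    apply Cfsg.Agent.S0736.result G hk hh
    intro q _ hqk
    have := Nat.le_of_dvd (by omega) hqk
    omega
  by_cases hk2 : k = 2
  · subst hk2
    change MulAction.IsMultiplyPretransitive G α 1
    rw [MulAction.is_one_pretransitive_iff]
    refine ⟨fun a b => ?_⟩
    obtain ⟨g, hg, hgm⟩ := exists_map_of_homog G hh1 {a} {b} (by simp) (by simp)
    refine ⟨⟨g, hg⟩, ?_⟩
    have := (hgm a).mp (by simp)
    have h3 : g a = b := by simpa using this
    exact h3
  · have hk3 : 3 ≤ k := by omega
    have htr : MulAction.IsMultiplyPretransitive G α (k - 2) := by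
      have := ih (k - 1) (by omega) (by omega) (by omega) hh1
      rwa [Nat.sub_sub] at this
    by_contra hnt
    -- the common orders of the pointwise stabilisers
    obtain ⟨s₀, -, hs₀⟩ := Finset.exists_subset_card_eq (s := (Finset.univ : Finset α))
      (n := k - 1) (by rw [Finset.card_univ]; omega)
    obtain ⟨t₀, -, ht₀⟩ := Finset.exists_subset_card_eq (s := (Finset.univ : Finset α))
      (n := k) (by rw [Finset.card_univ]; omega)
    have hl : ∀ s : Finset α, s.card = k - 1 →
        Nat.card (fixingSubgroup G (s : Set α)) = Nat.card (fixingSubgroup G (s₀ : Set α)) := by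
      intro s hs
      obtain ⟨g, hg, hgm⟩ := exists_map_of_homog G hh1 s s₀ hs hs₀
      exact card_fixingSubgroup_of_map G ⟨g, hg⟩ s s₀ hgm
    have hm : ∀ s : Finset α, s.card = k →
        Nat.card (fixingSubgroup G (s : Set α)) = Nat.card (fixingSubgroup G (t₀ : Set α)) := by
      intro s hs
      obtain ⟨g, hg, hgm⟩ := exists_map_of_homog G hh s t₀ hs ht₀
      exact card_fixingSubgroup_of_map G ⟨g, hg⟩ s t₀ hgm
    by_cases hl1 : 1 < Nat.card (fixingSubgroup G (s₀ : Set α))
    · exact hnt (Cfsg.Agent.S0744.result G (by omega) (by omega) _ _ hl1 hl hm)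
    · have hl0 : Nat.card (fixingSubgroup G (s₀ : Set α)) = 1 := by
        have : 0 < Nat.card (fixingSubgroup G (s₀ : Set α)) := Nat.card_pos
        omega
      have hfree : ∀ g ∈ G, ∀ S : Finset α, S.card = k - 1 → FixOn g S → g = 1 := by
        intro g hg S hS hfix
        have hc : Nat.card (fixingSubgroup G (S : Set α)) = 1 := by rw [hl S hS, hl0]
        have hsub : Subsingleton (fixingSubgroup G (S : Set α)) :=
          (Nat.card_eq_one_iff_unique.mp hc).1
        have hmem : (⟨g, hg⟩ : G) ∈ fixingSubgroup G (S : Set α) := by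
          rw [mem_fixingSubgroup_iff]
          intro y hy
          exact hfix y (Finset.mem_coe.mp hy)
        have h1 : (⟨⟨g, hg⟩, hmem⟩ : fixingSubgroup G (S : Set α)) = 1 := Subsingleton.elim _ _
        have h2 := congrArg (fun u : fixingSubgroup G (S : Set α) => ((u : G) : Equiv.Perm α)) h1
        simpa using h2
      exact cfg_false (G := G) (k := k)
        { hk := hk3, hkn := hkn, trans := htr, homog1 := hh1, homog := hh, free := hfree,
          ntrans := hnt }

end Cfsg.Agent.Lib.Helper1.LW
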