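import Mathlib

/-!
# Livingstone–Wagner, second statement (S0745): the case of degree `k`
-/

set_option autoImplicit false

namespace Cfsg.Agent.Lib.Helper1.LW

variable {α : Type*} [Fintype α] [DecidableEq α] {k : ℕ}

/-- NEQK: degree `k`. -/
theorem eq_alt_of_card_eq (G : Subgroup (Equiv.Perm α)) (hk : 3 ≤ k) (hkn : k = Fintype.card α)
    (ht : MulAction.IsMultiplyPretransitive G α (k - 2))
    (hnt : ¬ MulAction.IsMultiplyPretransitive G α (k - 1)) : G = alternatingGroup α := by
  subst hkn
  have hnon : Nontrivial α := by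
    rw [← Fintype.one_lt_card_iff_nontrivial]; omega
  have hle : alternatingGroup α ≤ G := by
    apply IsMultiplyPretransitive.alternatingGroup_le
    rwa [Nat.card_eq_fintype_card]
  have hne : G ≠ ⊤ := by
    intro htop
    apply hnt
    subst htop
    rw [MulAction.isMultiplyPretransitive_iff]
    intro x y
    obtain ⟨σ, hσ⟩ := Equiv.Perm.exists_smul_eq_embedding x y
    exact ⟨⟨σ, Subgroup.mem_top σ⟩, hσ⟩
  have hdvd : G.index ∣ 2 := by
    have := Subgroup.index_dvd_of_le hle
    rwa [alternatingGroup.index_eq_two] at this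
  have hidx : G.index = 2 := by
    rcases (Nat.dvd_prime Nat.prime_two).mp hdvd with h1 | h2
    · exact (hne (Subgroup.index_eq_one.mp h1)).elim
    · exact h2
  exact Equiv.Perm.eq_alternatingGroup_of_index_eq_two hidx

end Cfsg.Agent.Lib.Helper1.LW
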