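import Mathlib
import Cfsg.Agent.Lib.Helper1.LW.Defs2

/-!
# Livingstone–Wagner (S0746): package S (the stabiliser of `k-2` points has odd order)
-/

set_option autoImplicit false

namespace Cfsg.Agent.Lib.Helper1.LW

variable {α : Type*} [Fintype α] [DecidableEq α] {G : Subgroup (Equiv.Perm α)} {k : ℕ}

theorem sk2_noInv (h : Cfg2 G k) (w : WK G k) :
    ∀ u ∈ G, u ≠ 1 → u * u = 1 → ∀ Γ : Finset α, Γ.card + 2 = k → ¬ FixOn u Γ := by
  intro u hu hu1 huu Γ₀ hΓ₀ hfix
  have hk := h.hk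
  have hkn := h.hkn
  -- a (k-1)-set and its missing transposition
  obtain ⟨Γ, -, hΓ⟩ := Finset.exists_subset_card_eq (s := (Finset.univ : Finset α))
    (n := k - 1) (by rw [Finset.card_univ]; omega)
  obtain ⟨a, ha, b, hb, hab, hns⟩ := w.ns Γ (by omega)
  set Λ : Finset α := Γ \ {a, b} with hΛdef
  have haΛ : a ∉ Λ := by simp [hΛdef]
  have hbΛ : b ∉ Λ := by simp [hΛdef]
  have hΛcard : Λ.card + 3 = k := by
    have h1 : ({a, b} : Finset α) ⊆ Γ := by
      intro x hx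
      rcases Finset.mem_insert.mp hx with rfl | hx
      · exact ha
      · rw [Finset.mem_singleton.mp hx]; exact hb
    rw [hΛdef, Finset.card_sdiff_of_subset h1, Finset.card_pair hab]
    omega
  -- the conjugates of `u`
  have key : ∀ y, y ∉ Λ → ∃ v ∈ G, v ≠ 1 ∧ v * v = 1 ∧ FixOn v (insert y Λ) := by
    intro y hy
    have hc : (insert y Λ).card + 2 = k := by
      rw [Finset.card_insert_of_notMem hy]; omega
    obtain ⟨g, hg, hgm⟩ := w.conj2 Γ₀ (insert y Λ) hΓ₀ hc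
    refine ⟨g * u * g⁻¹, G.mul_mem (G.mul_mem hg hu) (G.inv_mem hg), ?_, ?_, ?_⟩
    · intro hcon
      apply hu1
      have : u = g⁻¹ * (g * u * g⁻¹) * g := by group
      rw [this, hcon]; group
    · calc g * u * g⁻¹ * (g * u * g⁻¹) = g * (u * u) * g⁻¹ := by group
        _ = 1 := by rw [huu]; group
    · intro z hz
      have h1 : g⁻¹ z ∈ Γ₀ := by
        rw [hgm]
        rw [← Equiv.Perm.mul_apply, mul_inv_cancel, Equiv.Perm.one_apply]
        exact hz
      rw [Equiv.Perm.mul_apply, Equiv.Perm.mul_apply, hfix _ h1, ← Equiv.Perm.mul_apply,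
        mul_inv_cancel, Equiv.Perm.one_apply]
  choose! t ht using key
  have hfree1 : ∀ y, y ∉ Λ → ∀ z, z ∉ Λ → z ≠ y → t y z ≠ z := by
    intro y hy z hz hzy hfz
    apply (ht y hy).2.1
    apply h.eq_one_of_fixOn (ht y hy).1 (S := insert z (insert y Λ))
    · rw [Finset.card_insert_of_notMem (by simp [hzy, hz]), Finset.card_insert_of_notMem hy]
      omega
    · exact ((ht y hy).2.2.2).insert hfz
  have hpres : ∀ y, y ∉ Λ → ∀ z, z ∉ Λ → t y z ∉ Λ := by
    intro y hy z hz hmem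
    have h1 : t y (t y z) = t y z :=
      (ht y hy).2.2.2 _ (Finset.mem_insert_of_mem hmem)
    have h2 : t y z = z := (t y).injective h1
    rw [h2] at hmem
    exact hz hmem
  have hY : ∀ y, y ∈ (Finset.univ \ Λ) ↔ y ∉ Λ := by
    intro y; simp
  obtain ⟨y, hyY, hya, hyab⟩ := exists_map_eq (Finset.univ \ Λ) a t
    (by
      intro y hy hya
      rw [hY] at hy
      exact ⟨(hY _).mpr (hpres y hy a haΛ), hfree1 y hy a haΛ (Ne.symm hya)⟩)
    (by
      intro y hy y' hy' hya hy'a hyy'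
      rw [hY] at hy hy'
      have hb'Λ : t y a ∉ Λ := hpres y hy a haΛ
      have hb'a : t y a ≠ a := hfree1 y hy a haΛ (Ne.symm hya)
      have heq : t y = t y' := by
        apply h.eq_of_agree (ht y hy).1 (ht y' hy').1 (S := insert a (insert (t y a) Λ))
        · rw [Finset.card_insert_of_notMem (by simp [Ne.symm hb'a, haΛ]),
            Finset.card_insert_of_notMem hb'Λ]
          omega
        · intro x hx
          rcases Finset.mem_insert.mp hx with rfl | hx
          · exact hyy'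
          · rcases Finset.mem_insert.mp hx with hxe | hx
            · have h1 := (swaps_of_invol (ht y hy).2.2.1 rfl : Swaps (t y) a (t y a)).2
              have h2 := (swaps_of_invol (ht y' hy').2.2.1 hyy'.symm : Swaps (t y') a (t y a)).2
              rw [hxe, h1, h2]
            · rw [(ht y hy).2.2.2 x (Finset.mem_insert_of_mem hx),
                (ht y' hy').2.2.2 x (Finset.mem_insert_of_mem hx)]
      by_contra hne
      have h1 : t y y' = y' := by
        rw [heq]; exact (ht y' hy').2.2.2 y' (Finset.mem_insert_self _ _)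
      exact hfree1 y hy y' hy' (Ne.symm hne) h1)
    b ((hY b).mpr hbΛ) (Ne.symm hab)
  rw [hY] at hyY
  exact hns (t y) (ht y hyY).1 (((ht y hyY).2.2.2).mono (Finset.subset_insert _ _))
    (swaps_of_invol (ht y hyY).2.2.1 hyab)

theorem sk2_fix_le (h : Cfg2 G k)
    (hno : ∀ u ∈ G, u ≠ 1 → u * u = 1 → ∀ Γ : Finset α, Γ.card + 2 = k → ¬ FixOn u Γ) :
    ∀ u ∈ G, u ≠ 1 → u * u = 1 → nfix u + 3 ≤ k := by
  intro u hu hu1 huu
  by_contra hcon
  have hk := h.hk
  obtain ⟨T, hTS, hT⟩ := Finset.exists_subset_card_eq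
    (s := Finset.univ.filter (fun x => u x = x)) (n := k - 2) (by unfold nfix at hcon; omega)
  apply hno u hu hu1 huu T (by omega)
  intro x hx
  exact (Finset.mem_filter.mp (hTS hx)).2

theorem sk2_odd_order (_h : Cfg2 G k)
    (hno : ∀ u ∈ G, u ≠ 1 → u * u = 1 → ∀ Γ : Finset α, Γ.card + 2 = k → ¬ FixOn u Γ) :
    ∀ g ∈ G, ∀ Γ : Finset α, Γ.card + 2 = k → FixOn g Γ → Odd (orderOf g) := by
  intro g hg Γ hΓ hfix
  rw [← Nat.not_even_iff_odd]
  rintro ⟨m, hm⟩
  have hpos : 0 < orderOf g := orderOf_pos g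
  apply hno (g ^ m) (G.pow_mem hg m) ?_ ?_ Γ hΓ (hfix.pow m)
  · intro hcon
    have := orderOf_dvd_of_pow_eq_one hcon
    have := Nat.le_of_dvd (by omega) this
    omega
  · rw [← pow_add, ← hm, pow_orderOf_eq_one]

theorem sk2_inv_sw (h : Cfg2 G k) (w : WK G k)
    (hodd : ∀ g ∈ G, ∀ Γ : Finset α, Γ.card + 2 = k → FixOn g Γ → Odd (orderOf g)) :
    ∀ Λ : Finset α, Λ.card + 4 = k → ∀ a b, a ∉ Λ → b ∉ Λ → a ≠ b →
      ∃ t ∈ G, t * t = 1 ∧ FixOn t Λ ∧ Swaps t a b := by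
  intro Λ hΛ a b ha hb hab
  obtain ⟨g, hg, hfix, hsw⟩ := w.sw Λ (by omega) a b ha hb hab
  have hfix2 : FixOn (g * g) (insert a (insert b Λ)) := by
    apply FixOn.insert
    · apply FixOn.insert (hfix.mul hfix)
      rw [Equiv.Perm.mul_apply, hsw.2, hsw.1]
    · rw [Equiv.Perm.mul_apply, hsw.1, hsw.2]
  have hc : (insert a (insert b Λ)).card + 2 = k := by
    rw [Finset.card_insert_of_notMem (by simp [hab, ha]), Finset.card_insert_of_notMem hb]
    omega
  have ho := hodd (g * g) (G.mul_mem hg hg) _ hc hfix2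
  refine ⟨g ^ orderOf (g * g), G.pow_mem hg _, ?_, hfix.pow _, hsw.pow_odd ho⟩
  rw [← (Commute.refl g).mul_pow, pow_orderOf_eq_one]

theorem sk2_inv_conj (h : Cfg2 G k)
    (hodd : ∀ g ∈ G, ∀ Γ : Finset α, Γ.card + 2 = k → FixOn g Γ → Odd (orderOf g)) :
    ∀ Λ : Finset α, Λ.card + 4 = k → ∀ a b, a ∉ Λ → b ∉ Λ → a ≠ b →
    ∀ t ∈ G, ∀ t' ∈ G, t * t = 1 → t' * t' = 1 → FixOn t Λ → FixOn t' Λ →
      Swaps t a b → Swaps t' a b →
      ∃ h ∈ G, FixOn h (insert a (insert b Λ)) ∧ t' = h⁻¹ * t * h := by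
  intro Λ hΛ a b ha hb hab t ht t' ht' htt ht't' hfix hfix' hsw hsw'
  set x : Equiv.Perm α := t * t' with hx
  have hxG : x ∈ G := G.mul_mem ht ht'
  have hxfix : FixOn x (insert a (insert b Λ)) := by
    apply FixOn.insert
    · apply FixOn.insert (hfix.mul hfix')
      rw [Equiv.Perm.mul_apply, hsw'.2, hsw.1]
    · rw [Equiv.Perm.mul_apply, hsw'.1, hsw.2]
  have hc : (insert a (insert b Λ)).card + 2 = k := by
    rw [Finset.card_insert_of_notMem (by simp [hab, ha]), Finset.card_insert_of_notMem hb]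
    omega
  obtain ⟨j, hj⟩ := hodd x hxG _ hc hxfix
  have htinv : t⁻¹ = t := inv_eq_of_mul_eq_one_right htt
  have ht'inv : t'⁻¹ = t' := inv_eq_of_mul_eq_one_right ht't'
  have hxinv : x⁻¹ = t' * t := by rw [hx, mul_inv_rev, htinv, ht'inv]
  -- `t * x = x⁻¹ * t`
  have hsc : SemiconjBy t x x⁻¹ := by
    change t * x = x⁻¹ * t
    rw [hxinv, hx]
    calc t * (t * t') = (t * t) * t' := by group
      _ = t' * (t * t) := by rw [htt]; group
      _ = t' * t * t := by group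
  have hsc' := hsc.pow_right (j + 1)
  have hpow : (x⁻¹) ^ (2 * j + 1) = 1 := by
    rw [inv_pow, ← hj, pow_orderOf_eq_one, inv_one]
  refine ⟨x ^ (j + 1), G.pow_mem hxG _, hxfix.pow _, ?_⟩
  have h1 : t * x ^ (j + 1) = (x⁻¹) ^ (j + 1) * t := hsc'
  have h2 : (x ^ (j + 1))⁻¹ = (x⁻¹) ^ (j + 1) := (inv_pow x (j + 1)).symm
  have h3 : t' = x⁻¹ * t := by
    rw [hxinv]
    calc t' = t' * (t * t) := by rw [htt, mul_one]
      _ = t' * t * t := by group
  calc t' = x⁻¹ * t := h3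
    _ = (x⁻¹) ^ (2 * j + 1) * x⁻¹ * t := by rw [hpow, one_mul]
    _ = (x⁻¹) ^ (j + 1) * ((x⁻¹) ^ (j + 1) * t) := by
        rw [← mul_assoc, ← pow_add, ← pow_succ]
        congr 2
        omega
    _ = (x ^ (j + 1))⁻¹ * t * x ^ (j + 1) := by rw [← h1, h2, mul_assoc]

theorem sk_of_cfg2 (h : Cfg2 G k) (w : WK G k) : SK G k :=
  have hno := sk2_noInv h w
  have hodd := sk2_odd_order h hno
  { noInv := hno
    fix_le := sk2_fix_le h hno
    odd_order := hodd
    inv_sw := sk2_inv_sw h w hodd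
    inv_conj := sk2_inv_conj h hodd }

end Cfsg.Agent.Lib.Helper1.LW
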