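import Mathlib
import Cfsg.Agent.Lib.Helper1.LW.Glue
import Cfsg.Agent.Lib.Helper1.LW.W2
import Cfsg.Agent.Lib.Helper1.LW.S2
import Cfsg.Agent.Lib.Helper1.LW.BI2
import Cfsg.Agent.Lib.Helper1.LW.NEQK
import Cfsg.Agent.Lib.Helper1.LW.COMMNUM
import Cfsg.Agent.Lib.Helper1.LW.ALT
import Cfsg.Agent.Lib.Helper4.LW2_COMM
import Cfsg.Agent.Lib.Helper8.LW2_N
import Cfsg.Agent.Lib.Helper9.LW2_AI
import Cfsg.Agent.Lib.Helper9.LW2_AII
import Cfsg.Agent.Lib.Helper9.LW2_KILL610
import Cfsg.Agent.Lib.Helper3.LW2_SMALL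

/-!
# Livingstone–Wagner, second statement (S0745): assembling the packages
-/

set_option autoImplicit false

namespace Cfsg.Agent.Lib.Helper1.LW

variable {α : Type*} [Fintype α] [DecidableEq α] {G : Subgroup (Equiv.Perm α)} {k : ℕ}

/-- The configurations with `k < n < 2k`. -/
theorem cfg2_cases (h : Cfg2 G k) (hn : Fintype.card α + 1 ≤ 2 * k) :
    (Fintype.card α = 5 ∧ k = 4 ∧ Nat.card G = 20) ∨
    (Fintype.card α = 6 ∧ k = 5 ∧ Nat.card G = 120) ∨
    (Fintype.card α = 9 ∧ k = 5 ∧ (Nat.card G = 504 ∨ Nat.card G = 1512)) := by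
  have w := wk_of_cfg2 h
  have sk := sk_of_cfg2 h w
  obtain ⟨r, s, nk⟩ := nk2_of_cfg2 h w
  have hk := h.hk
  have hkn := h.hkn
  by_cases hk5 : k ≤ 5
  · exact small2 h w sk nk hk5 hn
  · exfalso
    rcases Nat.even_or_odd (Fintype.card α - k) with he | ho
    · have bk := bk_of_cfg2 h w sk he (by omega)
      have hr2 : r = 2 := r_eq_two h nk bk (by omega)
      subst hr2
      have hodd := odd_s2 h sk nk
      have hrs := nk.hrs
      have hb : ∀ p : ℕ, p.Prime → p ∣ s →
          (2 * s + 2 ≤ k → 2 * s ≤ 3) ∧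
          (∀ j, j + k = 2 * s + 3 → 1 ≤ j → j ≤ p → 2 * s ≤ j + p) ∧
          (∀ j, j + k = 2 * s + 3 → p < j → j ≤ 2 * p → 2 * s ≤ j + 2 * p) := by
        intro p hp hps
        exact comm_bound h w nk p hp hps (by omega)
      obtain ⟨h6, h10, h3⟩ := comm_num (k := k) (s := s) (n := Fintype.card α) (by omega) hn hkn
        hrs hodd hb
      subst h6 h3
      exact kill_six_ten h w nk h10
    · exact false_caseA2 h w (ak_of_cfg2 h w sk ho (by omega)) (by omega)

/-- If `G` is `(k-1)`- and `k`-homogeneous but not `(k-1)`-transitive, then no nontrivial element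
of `G` fixes `k-1` points (by S0744). -/
theorem free_of_ntrans (G : Subgroup (Equiv.Perm α)) {k : ℕ} (hk : 2 ≤ k)
    (hkn : k ≤ Fintype.card α)
    (hnt : ¬ MulAction.IsMultiplyPretransitive G α (k - 1))
    (hh1 : MulAction.IsPretransitive G (Set.powersetCard α (k - 1)))
    (hh : MulAction.IsPretransitive G (Set.powersetCard α k)) :
    ∀ g ∈ G, ∀ S : Finset α, S.card = k - 1 → FixOn g S → g = 1 := by
  obtain ⟨s₀, -, hs₀⟩ := Finset.exists_subset_card_eq (s := (Finset.univ : Finset α))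
    (n := k - 1) (by rw [Finset.card_univ]; omega)
  obtain ⟨t₀, -, ht₀⟩ := Finset.exists_subset_card_eq (s := (Finset.univ : Finset α))
    (n := k) (by rw [Finset.card_univ]; omega)
  have hl : ∀ s : Finset α, s.card = k - 1 →
      Nat.card (fixingSubgroup G (s : Set α)) = Nat.card (fixingSubgroup G (s₀ : Set α)) := by
    intro s hs
    obtain ⟨g, hg, hgm⟩ := exists_map_of_homog G hh1 s s₀ hs hs₀
    exact card_fixingSubgroup_of_map G ⟨g, hg⟩ s s₀ hgm
  have hm : ∀ s : Finset α, s.card = k →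
      Nat.card (fixingSubgroup G (s : Set α)) = Nat.card (fixingSubgroup G (t₀ : Set α)) := by
    intro s hs
    obtain ⟨g, hg, hgm⟩ := exists_map_of_homog G hh s t₀ hs ht₀
    exact card_fixingSubgroup_of_map G ⟨g, hg⟩ s t₀ hgm
  by_cases hl1 : 1 < Nat.card (fixingSubgroup G (s₀ : Set α))
  · exact (hnt (Cfsg.Agent.S0744.result G (by omega) hkn _ _ hl1 hl hm)).elim
  · have hl0 : Nat.card (fixingSubgroup G (s₀ : Set α)) = 1 := by
      have : 0 < Nat.card (fixingSubgroup G (s₀ : Set α)) := Nat.card_pos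
      omega
    intro g hg S hS hfix
    have hc : Nat.card (fixingSubgroup G (S : Set α)) = 1 := by rw [hl S hS, hl0]
    have hsub : Subsingleton (fixingSubgroup G (S : Set α)) :=
      (Nat.card_eq_one_iff_unique.mp hc).1
    have hmem : (⟨g, hg⟩ : G) ∈ fixingSubgroup G (S : Set α) := by
      rw [mem_fixingSubgroup_iff]
      intro y hy
      exact hfix y (Finset.mem_coe.mp hy)
    have h1 : (⟨⟨g, hg⟩, hmem⟩ : fixingSubgroup G (S : Set α)) = 1 := Subsingleton.elim _ _
    have h2 := congrArg (fun u : fixingSubgroup G (S : Set α) => ((u : G) : Equiv.Perm α)) h1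
    simpa using h2

/-- The Livingstone–Wagner theorem, second form (the list of exceptions). -/
theorem lw2_main (G : Subgroup (Equiv.Perm α)) {k : ℕ} (hk : 3 ≤ k)
    (hkn : k ≤ Fintype.card α)
    (ht : MulAction.IsMultiplyPretransitive G α (k - 2))
    (hnt : ¬ MulAction.IsMultiplyPretransitive G α (k - 1))
    (hh1 : MulAction.IsPretransitive G (Set.powersetCard α (k - 1)))
    (hh : MulAction.IsPretransitive G (Set.powersetCard α k)) :
    (k = Fintype.card α ∧ G = alternatingGroup α) ∨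
    (Fintype.card α = 5 ∧ k = 4 ∧ Nat.card G = 20) ∨
    (Fintype.card α = 6 ∧ k = 5 ∧ Nat.card G = 120) ∨
    (Fintype.card α = 9 ∧ k = 5 ∧ (Nat.card G = 504 ∨ Nat.card G = 1512)) := by
  by_cases hkeq : k = Fintype.card α
  · left
    exact ⟨hkeq, eq_alt_of_card_eq G hk hkeq ht hnt⟩
  · right
    have hfree := free_of_ntrans G (by omega) hkn hnt hh1 hh
    have h2 : Cfg2 G k :=
      { hk := hk, hkn := by omega, trans := ht, homog1 := hh1, homog := hh, free := hfree,
        ntrans := hnt }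
    by_cases h2k : 2 * k ≤ Fintype.card α
    · exact (cfg_false (h2.toCfg h2k)).elim
    · exact cfg2_cases h2 (by omega)

end Cfsg.Agent.Lib.Helper1.LW
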